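import Cfsg.Agent.Lib.SylAltEight.CentSingle

/-!
# The centralizers of all involutions of `A`
-/

set_option autoImplicit false
set_option maxRecDepth 100000
set_option linter.style.haveILetI false

namespace CfsgLib.SylAltEight

open Subgroup Equiv

theorem perm_pair_stab : ∀ ρ : Perm (Fin 5), Perm.sign ρ = 1 →
    ({0, 1} : Finset (Fin 5)).image ρ = {0, 1} ∨ ({0, 1} : Finset (Fin 5)).image ρ = {0, 1}ᶜ →
      ρ ^ 6 = 1 := by decide

theorem perm_pair_four : ∀ ρ : Perm (Fin 5), Perm.sign ρ = 1 →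
    ({0, 1} : Finset (Fin 5)).image ρ = {0, 1} ∨ ({0, 1} : Finset (Fin 5)).image ρ = {0, 1}ᶜ →
      ρ * ρ = 1 → ρ * sigA = sigA * ρ → ρ = 1 ∨ ρ = sigA := by decide

theorem single_times_pair : ∀ k j : Fin 5,
    (symmDiff {k} ({0, 1} : Finset (Fin 5)) = {j} ∨
      symmDiff {k} ({0, 1} : Finset (Fin 5)) = ({j} : Finset (Fin 5))ᶜ) → k = 0 ∨ k = 1 := by decide

universe u

variable {G : Type u} [Group G] [Finite G]

/-- An element mapping into the core modulo a central subgroup of order two. -/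
theorem exists_eq_mul_of_map_core {Z : Subgroup G} [Z.Normal] (hZ : Nat.card Z = 2)
    (hc : ∀ w ∈ Z, ∀ g : G, w * g = g * w) {v : G}
    (hv : QuotientGroup.mk' Z v ∈ Cfsg.oddCore (G ⧸ Z)) :
    ∃ e ∈ Z, ∃ o ∈ Cfsg.oddCore G, v = e * o := by
  set φ := QuotientGroup.mk' Z
  haveI : (Cfsg.oddCore (G ⧸ Z)).Normal := Solvable.pPrimeCore_normal 2 _
  set H := (Cfsg.oddCore (G ⧸ Z)).comap φ with hH
  haveI : H.Normal := Normal.comap inferInstance φ
  obtain ⟨SZ, hSZ⟩ := odd_index_toSylow (P := Z.subgroupOf H)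
    ((IsPGroup.of_card (n := 1) (by rw [hZ, pow_one])).comap_subtype)
    (by
      have h1 : Z.relIndex H = Nat.card (Cfsg.oddCore (G ⧸ Z)) := by
        rw [← relIndex_bot_left, ← map_comap_eq_self_of_surjective
          (QuotientGroup.mk'_surjective Z) (Cfsg.oddCore (G ⧸ Z)), ← relIndex_comap,
          MonoidHom.comap_bot, ← hH, QuotientGroup.ker_mk']
      show Odd (Z.relIndex H)
      rw [h1]
      exact Invol.odd_card_oddCore _)
  obtain ⟨w, hw, o, ho, e⟩ := exists_eq_mul_oddCore SZ (fun u _ => mem_centralizer_iff.2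
    fun w hw => Subtype.ext (by rw [hSZ] at hw; exact hc _ hw _)) ⟨v, hv⟩
  rw [hSZ] at hw
  exact ⟨w, hw, o, Solvable.map_pPrimeCore_le 2 H (mem_map_of_mem H.subtype ho),
    congrArg Subtype.val e⟩

namespace Data

variable (d : Data G)

theorem cent_single (h3 : ThreeClasses G) (i : Fin 5) {g : G}
    (hg : g ∈ centralizer ({d.f {i}} : Set G)) :
    ∃ n ∈ normalizer (d.A : Set G), ∃ o ∈ Cfsg.centralizerPPrimeCore 2 (d.f {i}), g = n * o := by
  obtain ⟨σ, hσ, hσi⟩ := perm_move_four i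
  obtain ⟨n, hn, e⟩ := d.lift hσ
  have hz : n * d.z * n⁻¹ = d.f {i} := by rw [d.conj_f hn, e, Finset.image_singleton, hσi]
  obtain ⟨m, hm, o, ho, e'⟩ := d.cent_z h3 (g := n⁻¹ * g * n) (by
    rw [mem_centralizer_singleton_iff]
    have h := mem_centralizer_singleton_iff.1 hg
    calc n⁻¹ * g * n * d.z = n⁻¹ * (g * (n * d.z * n⁻¹)) * n := by group
      _ = n⁻¹ * ((n * d.z * n⁻¹) * g) * n := by rw [hz, h]
      _ = d.z * (n⁻¹ * g * n) := by group)
  refine ⟨n * m * n⁻¹, mul_mem (mul_mem hn hm) (inv_mem hn), n * o * n⁻¹, hz ▸ core_conj ho, ?_⟩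
  calc g = n * (n⁻¹ * g * n) * n⁻¹ := by group
    _ = _ := by rw [e']; group

theorem cent_pair01 (h3 : ThreeClasses G) {g : G}
    (hg : g ∈ centralizer ({d.f {0, 1}} : Set G)) :
    ∃ n ∈ normalizer (d.A : Set G), ∃ o ∈ Cfsg.centralizerPPrimeCore 2 (d.f {0, 1}), g = n * o := by
  classical
  haveI : Fact (Nat.Prime 2) := ⟨Nat.prime_two⟩
  obtain ⟨x, y, hV⟩ := d.exists_complement' h3
  have hxN := d.hTN hV.hxT
  set a := d.f {0, 1} with had
  set X := centralizer ({a} : Set G) with hX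
  have haA : a ∈ d.A := d.f_mem _
  have hAX : d.A ≤ X := fun b hb => mem_centralizer_singleton_iff.2 (d.hcomm b hb a haA)
  have hxX : x ∈ X := mem_centralizer_singleton_iff.2 ((d.commute_f_iff hxN _).2 (by
    rw [hV.hπx]; decide))
  have ha1 : a ≠ 1 := fun e => by
    have := d.f_eq_one.1 e
    revert this; decide
  -- the Sylow subgroup of `X`
  set P := ((d.T : Subgroup G) ⊓ X).subgroupOf X with hP
  obtain ⟨R, hR⟩ := ((d.T.2.to_le inf_le_left).comap_subtype (K := X)).exists_le_sylow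
    (G := X)
  have hRP : (R : Subgroup X) = P := by
    refine le_antisymm (fun r hr => ?_) hR
    by_contra hne
    haveI := R.2.isNilpotent
    have hB : P.subgroupOf (R : Subgroup X) < ⊤ := lt_top_iff_ne_top.2 fun e =>
      hne (show (⟨r, hr⟩ : (R : Subgroup X)) ∈ P.subgroupOf (R : Subgroup X) from e ▸ mem_top _)
    obtain ⟨s, hs, hsB⟩ :=
      SetLike.exists_of_lt (Group.normalizerCondition_of_isNilpotent _ hB)
    set t : G := ((s : X) : G) with htd
    have hAP : ∀ b ∈ d.A, ∀ hb : b ∈ X, (⟨b, hb⟩ : X) ∈ P := fun b hb _ => ⟨d.hAT hb, hAX hb⟩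
    have htN : t ∈ normalizer (d.A : Set G) := by
      rw [mem_normalizer_iff_map_conj_eq]
      refine d.unique_E16 ?_ ?_ ?_
      · rintro _ ⟨b, hb, rfl⟩
        exact ((mem_normalizer_iff.1 hs ⟨⟨b, hAX hb⟩, hR (hAP b hb _)⟩).1 (hAP b hb _)).1
      · rintro _ ⟨b, hb, rfl⟩ _ ⟨c, hc, rfl⟩
        rw [← map_mul, d.hcomm b hb c hc, map_mul]
      · rw [card_map_of_injective (MulEquiv.injective _), d.hA16]
    set ρ := d.π ⟨t, htN⟩
    have htX : t ∈ X := (s : X).2
    have hfix := (d.commute_f_iff htN {0, 1}).1 (mem_centralizer_singleton_iff.1 htX)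
    have hp : IsPGroup 2 ↥((R : Subgroup X).map X.subtype) := R.2.map _
    have htR : t ∈ (R : Subgroup X).map X.subtype := ⟨s, s.2, rfl⟩
    have hxR : x ∈ (R : Subgroup X).map X.subtype := ⟨⟨x, hxX⟩, hR ⟨hV.hxT, hxX⟩, rfl⟩
    have hsq : ∀ w, ∀ hw : w ∈ normalizer (d.A : Set G), w ∈ (R : Subgroup X).map X.subtype →
        w ∈ X → d.π ⟨w, hw⟩ * d.π ⟨w, hw⟩ = 1 := by
      intro w hw hwR hwX
      have h6 := perm_pair_stab _ (d.hsign _)
        ((d.commute_f_iff hw {0, 1}).1 (mem_centralizer_singleton_iff.1 hwX))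
      obtain ⟨k, hk⟩ := hp ⟨w, hwR⟩
      have hk' : d.π ⟨w, hw⟩ ^ 2 ^ k = 1 := by
        rw [← map_pow, show (⟨w, hw⟩ : ↥(normalizer (d.A : Set G))) ^ 2 ^ k = 1 from
          Subtype.ext (by simpa using congrArg Subtype.val hk), map_one]
      have hd2 : orderOf (d.π ⟨w, hw⟩) ∣ 2 := by
        have h := Nat.dvd_gcd (orderOf_dvd_of_pow_eq_one hk') (orderOf_dvd_of_pow_eq_one h6)
        refine h.trans ?_
        rcases k with _ | k
        · simp
        · have h2 : Nat.Coprime (2 ^ k) 3 := Nat.Coprime.pow_left k (by decide)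
          rw [show (6 : ℕ) = 2 * 3 from rfl, pow_succ', Nat.gcd_mul_left, h2.gcd_eq_one, mul_one]
      rw [← pow_two]; exact orderOf_dvd_iff_pow_eq_one.1 hd2
    have h1 := hsq t htN htR htX
    have h2 := hsq (t * x) (mul_mem htN hxN) (mul_mem htR hxR) (mul_mem htX hxX)
    rw [d.π_mul htN hxN, hV.hπx] at h2
    have hcomm : ρ * sigA = sigA * ρ := by
      have h2' : ρ * sigA * (ρ * sigA) = 1 := h2
      rw [mul_eq_one_iff_eq_inv, mul_inv_rev, inv_eq_of_mul_eq_one_right sig_facts.2.1,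
        inv_eq_of_mul_eq_one_right h1] at h2'
      exact h2'
    have hAR : ∀ b ∈ d.A, b ∈ (R : Subgroup X).map X.subtype := fun b hb =>
      ⟨⟨b, hAX hb⟩, hR (hAP b hb _), rfl⟩
    have hker : ∀ w, ∀ hw : w ∈ normalizer (d.A : Set G), w ∈ (R : Subgroup X).map X.subtype →
        d.π ⟨w, hw⟩ = 1 → w ∈ d.A := by
      intro w hw hwR hwπ
      obtain ⟨b, hb, e, he, h'⟩ := (d.hker _).1 hwπ
      have h' : w = b * e := h'
      have he1 : e = 1 := by
        refine eq_one_of_pGroup_odd hp d.hDodd ?_ he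
        rw [show e = b⁻¹ * w by rw [h']; group]
        exact mul_mem (inv_mem (hAR b hb)) hwR
      rw [h', he1, mul_one]; exact hb
    apply hsB
    refine ⟨?_, htX⟩
    rcases perm_pair_four ρ (d.hsign _) hfix h1 hcomm with e | e
    · exact d.hAT (hker t htN htR e)
    · have := d.hAT (hker (x⁻¹ * t) (mul_mem (inv_mem hxN) htN) (mul_mem (inv_mem hxR) htR) (by
        rw [d.π_mul (inv_mem hxN) htN, d.π_inv hxN, hV.hπx]
        show sigA⁻¹ * ρ = 1
        rw [e, inv_mul_cancel]))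
      have h4 := mul_mem hV.hxT this
      rwa [mul_inv_cancel_left] at h4
  -- the quotient by `⟨a⟩`
  set Z : Subgroup X := (zpowers a).subgroupOf X with hZd
  have hZmem : ∀ u : X, u ∈ Z ↔ (u : G) = 1 ∨ (u : G) = a := fun u => by
    rw [hZd, mem_subgroupOf]
    constructor
    · intro h
      obtain ⟨k, hk⟩ := mem_zpowers_iff.1 h
      rcases Int.even_or_odd k with ⟨j, rfl⟩ | ⟨j, rfl⟩
      · left; rw [← hk, ← two_mul, zpow_mul, zpow_two, d.hexp _ haA, one_zpow]
      · right; rw [← hk, zpow_add, zpow_mul, zpow_two, d.hexp _ haA, one_zpow, one_mul, zpow_one]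
    · rintro (e | e) <;> rw [e]
      exacts [one_mem _, mem_zpowers _]
  have hZc : ∀ w ∈ Z, ∀ u : X, w * u = u * w := fun w hw u => by
    refine Subtype.ext ?_
    show (w : G) * u = u * w
    rcases (hZmem w).1 hw with e | e <;> rw [e]
    · rw [one_mul, mul_one]
    · exact (mem_centralizer_singleton_iff.1 u.2).symm
  haveI : Z.Normal := ⟨fun w hw u => by rw [← hZc w hw, mul_inv_cancel_right]; exact hw⟩
  have hZ2 : Nat.card Z = 2 := by
    rw [Nat.card_congr (subgroupOfEquivOfLe (zpowers_le.2 (hAX haA))).toEquiv, Nat.card_zpowers,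
      d.orderOf_f ha1]
  let φ : X →* X ⧸ Z := QuotientGroup.mk' Z
  obtain ⟨Pb, hPb⟩ := odd_index_toSylow (R.2.map φ) ((not_two_dvd_iff.1 R.not_dvd_index).of_dvd_nat
    (index_map_dvd _ (QuotientGroup.mk'_surjective Z)))
  have hw0A : d.f {0} ∈ d.A := d.f_mem _
  have hw1A : d.f {1} ∈ d.A := d.f_mem _
  have hw01 : d.f {0} * a = d.f {1} := by
    rw [had, d.f_mul]; exact congrArg d.f (by decide)
  let w₀ : X := ⟨d.f {0}, hAX hw0A⟩
  have hu : orderOf (φ w₀) = 2 := Invol.invol_of_mul_self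
    (by rw [← map_mul, show w₀ * w₀ = 1 from Subtype.ext (d.hexp _ hw0A), map_one])
    (fun e => by
      rcases (hZmem w₀).1 ((QuotientGroup.eq_one_iff w₀).1 e) with e' | e'
      · exact d.single_ne_one 0 e'
      · have := (d.f_eq _ _).1 e'
        revert this; decide)
  have hiso : Cfsg.IsIsolatedInvolution (φ w₀) := by
    refine Invol.isolated_of_sylow Pb hu ?_ fun gb hgb => ?_
    · show φ w₀ ∈ (Pb : Subgroup (X ⧸ Z))
      rw [hPb]; exact mem_map_of_mem φ (hRP.symm ▸ ⟨d.hAT hw0A, hAX hw0A⟩)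
    obtain ⟨c, rfl⟩ := QuotientGroup.mk'_surjective Z gb
    change φ c * φ w₀ * (φ c)⁻¹ ∈ (Pb : Subgroup (X ⧸ Z)) at hgb
    rw [hPb, ← map_inv, ← map_mul, ← map_mul] at hgb
    obtain ⟨r, hr, er⟩ := hgb
    obtain ⟨zz, hzz, ez⟩ := (QuotientGroup.mk'_eq_mk' Z).1 er
    have hmemT : ((c : G) * d.f {0} * (c : G)⁻¹) ∈ (d.T : Subgroup G) := by
      have h : (r : G) * zz = (c : G) * d.f {0} * (c : G)⁻¹ := congrArg Subtype.val ez
      rw [← h]
      refine mul_mem ?_ ?_
      · rw [hRP] at hr; exact hr.1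
      · rcases (hZmem zz).1 hzz with e | e <;> rw [e]
        exacts [one_mem _, d.hAT haA]
    have hA := d.strongly_closed h3 hw0A (d.hTN hmemT)
    obtain ⟨k, hk⟩ := d.single_of_conj hA (isConj_iff.2 ⟨(c : G), rfl⟩)
    have hka : (c : G) * d.f {1} * (c : G)⁻¹ = d.f {k} * a := by
      have hca : (c : G) * a * (c : G)⁻¹ = a := by
        rw [mem_centralizer_singleton_iff.1 c.2, mul_inv_cancel_right]
      rw [← hw01, show (c : G) * (d.f {0} * a) * (c : G)⁻¹ =
        ((c : G) * d.f {0} * (c : G)⁻¹) * ((c : G) * a * (c : G)⁻¹) by group, hca, hk]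
    obtain ⟨j, hj⟩ := d.single_of_conj (mul_mem (d.f_mem {k}) haA)
      (isConj_iff.2 ⟨(c : G), hka⟩)
    rw [had, d.f_mul, d.f_eq] at hj
    show φ c * φ w₀ * (φ c)⁻¹ = φ w₀
    rw [← map_inv, ← map_mul, ← map_mul]
    rcases single_times_pair k j hj with rfl | rfl
    · exact congrArg φ (Subtype.ext hk)
    · refine ((QuotientGroup.mk'_eq_mk' Z).2 ⟨⟨a, hAX haA⟩, (hZmem _).2 (Or.inr rfl),
        Subtype.ext ?_⟩).symm
      show d.f {0} * a = (c : G) * d.f {0} * (c : G)⁻¹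
      rw [hw01, hk]
  -- `g` moves `w₀` to `w₀` or `w₁` modulo the core
  have hkey := Invol.zstar (X ⧸ Z) hiso (φ ⟨g, hg⟩)
  rw [← map_inv, ← map_inv, ← map_mul, ← map_mul, ← map_mul] at hkey
  obtain ⟨e, he, o, ho, heo⟩ := exists_eq_mul_of_map_core hZ2 hZc hkey
  have hO : (o : G) ∈ Cfsg.centralizerPPrimeCore 2 a := mem_core_iff.2 ⟨o.2, ho⟩
  have heo' : d.f {0} * g * (d.f {0})⁻¹ * g⁻¹ = (e : G) * o := congrArg Subtype.val heo
  rw [inv_eq_of_mul_eq_one_right (d.hexp _ hw0A)] at heo'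
  obtain ⟨w, hwA, hww, hwh⟩ : ∃ w ∈ d.A, (w = d.f {0} ∨ w = d.f {1}) ∧
      w * (g * d.f {0} * g⁻¹) = o := by
    refine ⟨(e : G) * d.f {0}, ?_, ?_, ?_⟩
    · rcases (hZmem e).1 he with e' | e' <;> rw [e']
      exacts [mul_mem (one_mem _) hw0A, mul_mem haA hw0A]
    · rcases (hZmem e).1 he with e' | e' <;> rw [e']
      · left; rw [one_mul]
      · right; rw [d.hcomm a haA _ hw0A, hw01]
    · have hee : (e : G) * e = 1 := by
        rcases (hZmem e).1 he with e' | e' <;> rw [e']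
        exacts [one_mul _, d.hexp a haA]
      calc (e : G) * d.f {0} * (g * d.f {0} * g⁻¹) =
            e * (d.f {0} * g * d.f {0} * g⁻¹) := by group
        _ = o := by rw [heo', ← mul_assoc, hee, one_mul]
  have hw2 : orderOf w = 2 := by
    rcases hww with rfl | rfl <;> exact d.orderOf_f (d.single_ne_one _)
  obtain ⟨dd, hdd, hconj⟩ := exists_conj_of_coset (odd_core a) hw2
    (by rw [Invol.orderOf_conj_eq]; exact d.orderOf_f (d.single_ne_one 0)) (hwh ▸ hO)
  have hddX : dd ∈ X := core_le a hdd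
  -- an element of `N` moving `w₀` to `w`
  obtain ⟨k, hkN, hkX, hkw⟩ : ∃ k ∈ normalizer (d.A : Set G), k ∈ X ∧ k * d.f {0} * k⁻¹ = w := by
    rcases hww with rfl | rfl
    · exact ⟨1, one_mem _, one_mem _, by group⟩
    · refine ⟨x, hxN, hxX, ?_⟩
      rw [d.conj_f hxN, hV.hπx]
      exact congrArg d.f (by decide)
  set c := k⁻¹ * (dd⁻¹ * g) with hcd
  have hcX : c ∈ X := mul_mem (inv_mem hkX) (mul_mem (inv_mem hddX) hg)
  have hc0 : c * d.f {0} * c⁻¹ = d.f {0} := by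
    calc c * d.f {0} * c⁻¹ = k⁻¹ * (dd⁻¹ * (g * d.f {0} * g⁻¹) * dd) * k := by rw [hcd]; group
      _ = k⁻¹ * w * k := by rw [← hconj]; group
      _ = d.f {0} := by rw [← hkw]; group
  have hcC : c ∈ centralizer ({d.f {0}} : Set G) :=
    mem_centralizer_singleton_iff.2 (mul_inv_eq_iff_eq_mul.1 hc0)
  obtain ⟨m, hm, o', ho', hmo⟩ := d.cent_single h3 0 hcC
  have hao : o' * a = a * o' := by
    have h1 : o' * a * o'⁻¹ = m⁻¹ * a * m := by
      have h := mem_centralizer_singleton_iff.1 hcX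
      rw [hmo] at h
      calc o' * a * o'⁻¹ = m⁻¹ * (m * o' * a) * o'⁻¹ := by group
        _ = m⁻¹ * (a * (m * o')) * o'⁻¹ := by rw [h]
        _ = _ := by group
    have h2 : a⁻¹ * (o' * a * o'⁻¹) ∈ d.A :=
      mul_mem (inv_mem haA) (h1 ▸ (mem_normalizer_iff''.1 hm a).1 haA)
    have haC : a ∈ centralizer ({d.f {0}} : Set G) :=
      mem_centralizer_singleton_iff.2 (d.hcomm a haA _ hw0A)
    have h3' : a⁻¹ * (o' * a * o'⁻¹) ∈ Cfsg.centralizerPPrimeCore 2 (d.f {0}) := by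
      have := mul_mem (core_conj_self (inv_mem haC) ho') (inv_mem ho')
      simpa [mul_assoc] using this
    have h4 := eq_one_of_pGroup_odd (d.T.2.to_le d.hAT) (odd_core _) h2 h3'
    rw [inv_mul_eq_one] at h4
    exact (mul_inv_eq_iff_eq_mul.1 h4.symm)
  have ho'X : o' ∈ X := mem_centralizer_singleton_iff.2 hao
  have hmX : m ∈ X := by
    have := mul_mem hcX (inv_mem ho'X)
    rwa [hmo, mul_inv_cancel_right] at this
  -- the core of the centralizer of both points
  set Y := centralizer ({d.f {0}} : Set G) ⊓ X with hY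
  set E := (Cfsg.oddCore ↥Y).map Y.subtype with hEd
  have hYn : ∀ u ∈ X, u * d.f {0} * u⁻¹ = d.f {0} ∨ u * d.f {0} * u⁻¹ = d.f {1} →
      u ∈ normalizer (Y : Set G) := by
    intro u hu h
    refine Invol.mem_normalizer_iff_of_finite fun v hv =>
      ⟨mem_centralizer_singleton_iff.2 ?_, X.mul_mem (X.mul_mem hu hv.2) (X.inv_mem hu)⟩
    have hv0 := mem_centralizer_singleton_iff.1 hv.1
    have hv1 : v * d.f {1} = d.f {1} * v := by
      rw [← hw01, ← mul_assoc, hv0, mul_assoc, mem_centralizer_singleton_iff.1 hv.2, mul_assoc]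
    have key : ∀ b, v * b = b * v → u * v * u⁻¹ * (u * b * u⁻¹) = u * b * u⁻¹ * (u * v * u⁻¹) :=
      fun b hb => by
        rw [show u * v * u⁻¹ * (u * b * u⁻¹) = u * (v * b) * u⁻¹ by group, hb]; group
    have hua : u * a * u⁻¹ = a := by
      rw [mem_centralizer_singleton_iff.1 hu, mul_inv_cancel_right]
    rcases h with h | h
    · have := key _ hv0; rwa [h] at this
    · have h10 : u * d.f {1} * u⁻¹ = d.f {0} := by
        rw [← hw01, show u * (d.f {0} * a) * u⁻¹ = (u * d.f {0} * u⁻¹) * (u * a * u⁻¹) by group,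
          h, hua, ← hw01, mul_assoc, d.hexp a haA, mul_one]
      have := key _ hv1; rwa [h10] at this
  have hEX : E ≤ X := (map_subtype_le _).trans inf_le_right
  have hEle : E ≤ Cfsg.centralizerPPrimeCore 2 a := by
    refine le_core_of_normalized hEX ?_ fun u hu => ?_
    · rw [hEd, card_map_of_injective Y.subtype_injective]; exact Invol.odd_card_oddCore _
    -- decompose `u` as `g` was
    have hkey := Invol.zstar (X ⧸ Z) hiso (φ ⟨u, hu⟩)
    rw [← map_inv, ← map_inv, ← map_mul, ← map_mul, ← map_mul] at hkey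
    obtain ⟨e, he, o, ho, heo⟩ := exists_eq_mul_of_map_core hZ2 hZc hkey
    have hO : (o : G) ∈ Cfsg.centralizerPPrimeCore 2 a := mem_core_iff.2 ⟨o.2, ho⟩
    have heo' : d.f {0} * u * (d.f {0})⁻¹ * u⁻¹ = (e : G) * o := congrArg Subtype.val heo
    rw [inv_eq_of_mul_eq_one_right (d.hexp _ hw0A)] at heo'
    obtain ⟨w, hww, hwh⟩ : ∃ w, (w = d.f {0} ∨ w = d.f {1}) ∧
        w * (u * d.f {0} * u⁻¹) = o := by
      refine ⟨(e : G) * d.f {0}, ?_, ?_⟩
      · rcases (hZmem e).1 he with e' | e' <;> rw [e']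
        · left; rw [one_mul]
        · right; rw [d.hcomm a haA _ hw0A, hw01]
      · have hee : (e : G) * e = 1 := by
          rcases (hZmem e).1 he with e' | e' <;> rw [e']
          exacts [one_mul _, d.hexp a haA]
        calc (e : G) * d.f {0} * (u * d.f {0} * u⁻¹) =
              e * (d.f {0} * u * d.f {0} * u⁻¹) := by group
          _ = o := by rw [heo', ← mul_assoc, hee, one_mul]
    obtain ⟨dd, hdd, hconj⟩ := exists_conj_of_coset (odd_core a)
      (by rcases hww with rfl | rfl <;> exact d.orderOf_f (d.single_ne_one _))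
      (by rw [Invol.orderOf_conj_eq]; exact d.orderOf_f (d.single_ne_one 0)) (hwh ▸ hO)
    have hddX : dd ∈ X := core_le a hdd
    have hu' : (dd⁻¹ * u) * d.f {0} * (dd⁻¹ * u)⁻¹ = w := by
      calc (dd⁻¹ * u) * d.f {0} * (dd⁻¹ * u)⁻¹ = dd⁻¹ * (u * d.f {0} * u⁻¹) * dd := by group
        _ = w := by rw [← hconj]; group
    refine ⟨dd⁻¹ * u, mul_mem (inv_mem hddX) hu, ?_, (dd⁻¹ * u)⁻¹ * dd * (dd⁻¹ * u)⁻¹⁻¹,
      core_conj_self (inv_mem (mul_mem (inv_mem hddX) hu)) hdd, by group⟩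
    refine Comp.normalizer_le_normalizer_pPrimeCore Y
      (hYn _ (mul_mem (inv_mem hddX) hu) ?_)
    rw [hu']; exact hww
  have ho'E : o' ∈ E := by
    have hle : Cfsg.centralizerPPrimeCore 2 (d.f {0}) ⊓ X ≤ E := by
      have hKY : Cfsg.centralizerPPrimeCore 2 (d.f {0}) ⊓ X ≤ Y :=
        inf_le_inf_right X (core_le _)
      rw [hEd, ← map_subgroupOf_eq_of_le hKY]
      refine map_mono (Invol.le_oddCore ⟨fun v hv u => ?_⟩ ?_)
      · rw [mem_subgroupOf] at hv ⊢
        exact ⟨core_conj_self u.2.1 hv.1, X.mul_mem (X.mul_mem u.2.2 hv.2) (X.inv_mem u.2.2)⟩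
      · rw [Nat.card_congr (subgroupOfEquivOfLe hKY).toEquiv]
        exact (odd_core _).of_dvd_nat (card_dvd_of_le inf_le_left)
    exact hle ⟨ho', ho'X⟩
  refine ⟨k * m, mul_mem hkN hm, (k * m)⁻¹ * dd * (k * m)⁻¹⁻¹ * o',
    mul_mem (core_conj_self (inv_mem (mul_mem hkX hmX)) hdd) (hEle ho'E), ?_⟩
  calc g = dd * k * c := by rw [hcd]; group
    _ = _ := by rw [hmo]; group

/-- The centralizers of all involutions of `A`. -/
theorem cent_A (h3 : ThreeClasses G) {a : G} (ha : a ∈ d.A) (ha1 : a ≠ 1) {g : G}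
    (hg : g ∈ centralizer ({a} : Set G)) :
    ∃ n ∈ normalizer (d.A : Set G), ∃ o ∈ Cfsg.centralizerPPrimeCore 2 a, g = n * o := by
  rcases d.cases_mem ha with rfl | ⟨i, rfl⟩ | ⟨i, j, hij, rfl⟩
  · exact absurd rfl ha1
  · exact d.cent_single h3 i hg
  obtain ⟨σ, hσ, hi, hj⟩ := pair_move i j hij
  obtain ⟨n, hn, e⟩ := d.lift hσ
  have hz : n * d.f {i, j} * n⁻¹ = d.f {0, 1} := by
    rw [d.conj_f hn, e, Finset.image_insert, Finset.image_singleton, hi, hj]
  obtain ⟨m, hm, o, ho, e'⟩ := d.cent_pair01 h3 (g := n * g * n⁻¹) (by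
    rw [mem_centralizer_singleton_iff, ← hz]
    have h := mem_centralizer_singleton_iff.1 hg
    rw [show n * g * n⁻¹ * (n * d.f {i, j} * n⁻¹) = n * (g * d.f {i, j}) * n⁻¹ by group, h]
    group)
  refine ⟨n⁻¹ * m * n, mul_mem (mul_mem (inv_mem hn) hm) hn, n⁻¹ * o * n⁻¹⁻¹, ?_, ?_⟩
  · have h := core_conj (g := n⁻¹) ho
    rwa [show n⁻¹ * d.f {0, 1} * n⁻¹⁻¹ = d.f {i, j} by rw [← hz]; group] at h
  · calc g = n⁻¹ * (n * g * n⁻¹) * n := by group
      _ = _ := by rw [e']; group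

end Data

end CfsgLib.SylAltEight
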