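import Cfsg.Agent.Lib.SylAltEight.Fusion

/-!
# The index-two subgroup of a Sylow 2-subgroup fixing the fifth point

`Q = A₀ V`, where `A₀` is the even part of the first four points and `V` a complement to `A`.
-/

set_option autoImplicit false
set_option maxRecDepth 100000

namespace CfsgLib.SylAltEight

open Subgroup Equiv

/-- The subset class lies in the even part of the first four points. -/
def EvenFour (s : Finset (Fin 5)) : Prop := (4 : Fin 5) ∉ s ∧ s.card % 2 = 0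

instance : DecidablePred EvenFour := fun s =>
  inferInstanceAs (Decidable ((4 : Fin 5) ∉ s ∧ s.card % 2 = 0))

theorem evenFour_symmDiff : ∀ s t : Finset (Fin 5), EvenFour s → EvenFour t →
    EvenFour (symmDiff s t) := by decide

theorem evenFour_or : ∀ s : Finset (Fin 5), EvenFour s ∨ EvenFour sᶜ ∨
    EvenFour (symmDiff s {0}) ∨ EvenFour (symmDiff s {0})ᶜ := by decide

theorem evenFour_pairs : ∀ i j : Fin 5, i ≠ 4 → j ≠ 4 → i ≠ j → EvenFour {i, j} := by decide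

theorem evenFour_cases : ∀ s : Finset (Fin 5), EvenFour s → s = ∅ ∨
    (∃ i j : Fin 5, i ≠ 4 ∧ j ≠ 4 ∧ i ≠ j ∧ s = {i, j}) ∨ s = {0, 1, 2, 3} := by decide

theorem evenFour_commutator : ∀ σ : Perm (Fin 5), Perm.sign σ = 1 → σ * σ = 1 → σ 4 = 4 →
    ∀ s : Finset (Fin 5), EvenFour s →
      symmDiff (s.image σ) s = ∅ ∨ symmDiff (s.image σ) s = {4}ᶜ := by decide

theorem perm_eq_one_of_fix_even : ∀ σ : Perm (Fin 5), Perm.sign σ = 1 →
    (∀ s : Finset (Fin 5), s ∈ [{0, 1}, {0, 2}, {2, 3}] → s.image σ = s ∨ s.image σ = sᶜ) →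
      σ = 1 := by decide

theorem perm_centralizes_sigA : ∀ ρ : Perm (Fin 5), Perm.sign ρ = 1 → ρ 4 = 4 → ρ * ρ ≠ 1 →
    ρ * sigA ≠ sigA * ρ ∧ ρ * sigB ≠ sigB * ρ ∧ ρ * (sigA * sigB) ≠ sigA * sigB * ρ := by decide

theorem perm_three_fix_mod : ∀ ρ : Perm (Fin 5), Perm.sign ρ = 1 → ρ 4 = 4 → ρ * ρ ≠ 1 →
    ∀ s : Finset (Fin 5), EvenFour s →
      (symmDiff (s.image ρ) s = ∅ ∨ symmDiff (s.image ρ) s = {4}ᶜ) →
        s = ∅ ∨ s = {4}ᶜ := by decide

universe u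

variable {G : Type u} [Group G] [Finite G] (d : Data G)

/-- A complement to `A` in `T`, given by commuting involutions. -/
structure Complement (x y : G) : Prop where
  hxT : x ∈ (d.T : Subgroup G)
  hyT : y ∈ (d.T : Subgroup G)
  hxx : x * x = 1
  hyy : y * y = 1
  hxy : x * y = y * x
  hπx : d.π ⟨x, d.hTN hxT⟩ = sigA
  hπy : d.π ⟨y, d.hTN hyT⟩ = sigB

namespace Data

theorem exists_complement' (h3 : ThreeClasses G) : ∃ x y : G, Complement d x y := by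
  obtain ⟨x, hxT, y, hyT, hxx, hyy, hxy, hx, hy, e1, e2⟩ := d.exists_complement h3
  exact ⟨x, y, ⟨hxT, hyT, hxx, hyy, hxy, e1, e2⟩⟩

/-- The central involution of `T` in `A`. -/
abbrev z : G := d.f {4}

theorem z_eq : d.f ({4}ᶜ : Finset (Fin 5)) = d.z := d.f_compl _

/-- The even part of the first four points. -/
def A0 : Subgroup G where
  carrier := {a | ∃ s, EvenFour s ∧ a = d.f s}
  one_mem' := ⟨∅, by decide, d.f_empty.symm⟩
  mul_mem' := by
    rintro _ _ ⟨s, hs, rfl⟩ ⟨t, ht, rfl⟩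
    exact ⟨_, evenFour_symmDiff s t hs ht, d.f_mul s t⟩
  inv_mem' := by
    rintro _ ⟨s, hs, rfl⟩
    exact ⟨s, hs, inv_eq_of_mul_eq_one_right (d.hexp _ (d.f_mem s))⟩

theorem A0_le : d.A0 ≤ d.A := by rintro _ ⟨s, -, rfl⟩; exact d.f_mem s

theorem z_mem_A0 : d.z ∈ d.A0 := ⟨{4}ᶜ, by decide, d.z_eq.symm⟩

theorem mem_A0_or {a : G} (ha : a ∈ d.A) : a ∈ d.A0 ∨ a * d.f {0} ∈ d.A0 := by
  obtain ⟨s, rfl⟩ := d.f_surj a ha
  rw [d.f_mul]
  rcases evenFour_or s with h | h | h | h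
  · exact Or.inl ⟨s, h, rfl⟩
  · exact Or.inl ⟨sᶜ, h, (d.f_compl s).symm⟩
  · exact Or.inr ⟨_, h, rfl⟩
  · exact Or.inr ⟨_, h, (d.f_compl _).symm⟩

theorem single_not_mem_A0 {i : Fin 5} (hi : i ≠ 4) : d.f {i} ∉ d.A0 := by
  rintro ⟨s, hs, h⟩
  have key : ∀ i : Fin 5, ∀ s : Finset (Fin 5), i ≠ 4 → EvenFour s →
      ¬ ({i} = s ∨ {i} = sᶜ) := by decide
  exact key i s hi hs ((d.f_eq _ _).1 h)

theorem commute_of_ker {n a : G} (hn : n ∈ normalizer (d.A : Set G)) (h : d.π ⟨n, hn⟩ = 1)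
    (ha : a ∈ d.A) : n * a = a * n := by
  obtain ⟨b, hb, e, he, h'⟩ := (d.hker _).1 h
  have h' : n = b * e := h'
  rw [h', mul_assoc, ← d.hAD a ha e he, ← mul_assoc, ← d.hcomm a ha b hb, mul_assoc]

theorem π_centralizing_A0 {n : G} (hn : n ∈ normalizer (d.A : Set G))
    (h : ∀ a ∈ d.A0, n * a = a * n) : d.π ⟨n, hn⟩ = 1 := by
  refine perm_eq_one_of_fix_even _ (d.hsign _) fun s hs => ?_
  rw [← d.commute_f_iff hn]
  refine h _ ⟨s, ?_, rfl⟩
  simp only [List.mem_cons, List.not_mem_nil, or_false] at hs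
  rcases hs with rfl | rfl | rfl <;> decide

theorem conj_A0 {n : G} (hn : n ∈ normalizer (d.A : Set G)) (h4 : d.π ⟨n, hn⟩ 4 = 4) {a : G}
    (ha : a ∈ d.A0) : n * a * n⁻¹ ∈ d.A0 := by
  obtain ⟨s, hs, rfl⟩ := ha
  refine ⟨s.image (d.π ⟨n, hn⟩), ⟨fun h => hs.1 ?_, ?_⟩, d.conj_f hn s⟩
  · obtain ⟨i, hi, he⟩ := Finset.mem_image.1 h
    rwa [← (d.π ⟨n, hn⟩).injective (he.trans h4.symm)]
  · rw [Finset.card_image_of_injective _ (Equiv.injective _)]; exact hs.2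

theorem fixes_z_iff {n : G} (hn : n ∈ normalizer (d.A : Set G)) :
    n * d.z = d.z * n ↔ d.π ⟨n, hn⟩ 4 = 4 := by
  rw [z, d.commute_f_iff hn, Finset.image_singleton]
  refine ⟨fun h => ?_, fun h => Or.inl (by rw [h])⟩
  rcases h with h | h
  · exact Finset.singleton_injective h
  · have := congrArg Finset.card h
    rw [Finset.card_singleton, Finset.card_compl, Finset.card_singleton, Fintype.card_fin] at this
    omega

theorem T_le_centralizer_z : (d.T : Subgroup G) ≤ centralizer ({d.z} : Set G) := fun t ht =>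
  mem_centralizer_singleton_iff.2 ((d.fixes_z_iff (d.hTN ht)).2 (d.hTim _ ht).1)

end Data

namespace Complement

variable {d} {x y : G} (h : Complement d x y)
include h

theorem V_mul {v w : G} (hv : v = 1 ∨ v = x ∨ v = y ∨ v = x * y)
    (hw : w = 1 ∨ w = x ∨ w = y ∨ w = x * y) :
    v * w = 1 ∨ v * w = x ∨ v * w = y ∨ v * w = x * y := by
  have e1 : y * x = x * y := h.hxy.symm
  have e2 : x * (x * y) = y := by rw [← mul_assoc, h.hxx, one_mul]
  have e3 : y * (x * y) = x := by rw [← mul_assoc, e1, mul_assoc, h.hyy, mul_one]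
  have e4 : x * y * x = y := by rw [mul_assoc, e1, e2]
  have e5 : x * y * y = x := by rw [mul_assoc, h.hyy, mul_one]
  have e6 : x * y * (x * y) = 1 := by rw [← mul_assoc, e4, h.hyy]
  rcases hv with rfl | rfl | rfl | rfl <;> rcases hw with rfl | rfl | rfl | rfl <;>
    simp [h.hxx, h.hyy, e1, e2, e3, e4, e5, e6]

/-- The complement as a subgroup. -/
def V : Subgroup G where
  carrier := {v | v = 1 ∨ v = x ∨ v = y ∨ v = x * y}
  one_mem' := Or.inl rfl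
  mul_mem' := h.V_mul
  inv_mem' := by
    intro v hv
    have hvv : v * v = 1 := by
      rcases hv with rfl | rfl | rfl | rfl
      · exact one_mul 1
      · exact h.hxx
      · exact h.hyy
      · rw [← mul_assoc, mul_assoc x, ← h.hxy, ← mul_assoc, h.hxx, one_mul, h.hyy]
    rw [inv_eq_of_mul_eq_one_right hvv]
    exact hv

theorem V_le_T : h.V ≤ (d.T : Subgroup G) := by
  rintro v (rfl | rfl | rfl | rfl)
  exacts [one_mem _, h.hxT, h.hyT, mul_mem h.hxT h.hyT]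

theorem V_sq {v : G} (hv : v ∈ h.V) : v * v = 1 := by
  rcases hv with rfl | rfl | rfl | rfl
  · exact one_mul 1
  · exact h.hxx
  · exact h.hyy
  · rw [← mul_assoc, mul_assoc x, ← h.hxy, ← mul_assoc, h.hxx, one_mul, h.hyy]

theorem V_comm {v w : G} (hv : v ∈ h.V) (hw : w ∈ h.V) : v * w = w * v := by
  rw [← inv_eq_of_mul_eq_one_right (h.V_sq (mul_mem hv hw)), mul_inv_rev,
    inv_eq_of_mul_eq_one_right (h.V_sq hv), inv_eq_of_mul_eq_one_right (h.V_sq hw)]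

theorem V_inf_A {v : G} (hv : v ∈ h.V) (hvA : v ∈ d.A) : v = 1 := by
  obtain ⟨-, -, -, a4, -, -, -, b4, -, hne⟩ := sig_facts
  rcases hv with rfl | rfl | rfl | rfl
  · rfl
  · exact absurd (h.hπx.symm.trans (d.π_of_mem hvA)) a4
  · exact absurd (h.hπy.symm.trans (d.π_of_mem hvA)) b4
  · refine absurd ?_ hne
    have e := d.π_of_mem hvA
    rw [d.π_mul (d.hTN h.hxT) (d.hTN h.hyT), h.hπx, h.hπy] at e
    rw [eq_inv_of_mul_eq_one_left e]
    exact inv_eq_of_mul_eq_one_right sig_facts.2.2.2.2.2.1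

theorem V_lift {t : G} (ht : t ∈ (d.T : Subgroup G)) :
    ∃ v ∈ h.V, v⁻¹ * t ∈ d.A := by
  obtain ⟨h4, h2⟩ := d.hTim ⟨t, d.hTN ht⟩ ht
  have key : ∀ v, ∀ hv : v ∈ h.V, d.π ⟨v, d.hTN (h.V_le_T hv)⟩ = d.π ⟨t, d.hTN ht⟩ →
      v⁻¹ * t ∈ d.A := fun v hv e =>
    d.mem_A_of_ker (mul_mem (inv_mem (h.V_le_T hv)) ht) (by
      rw [d.π_mul (inv_mem (d.hTN (h.V_le_T hv))) (d.hTN ht), d.π_inv (d.hTN (h.V_le_T hv)), e, inv_mul_cancel])
  rcases four_perms_cases _ (d.hsign _) h2 h4 with e | e | e | e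
  · exact ⟨1, one_mem _, key 1 (one_mem _) ((d.π_of_mem (one_mem _)).trans e.symm)⟩
  · exact ⟨x, Or.inr (Or.inl rfl), key x (Or.inr (Or.inl rfl)) (h.hπx.trans e.symm)⟩
  · exact ⟨y, Or.inr (Or.inr (Or.inl rfl)), key y (Or.inr (Or.inr (Or.inl rfl)))
      (h.hπy.trans e.symm)⟩
  · refine ⟨x * y, Or.inr (Or.inr (Or.inr rfl)), key _ (Or.inr (Or.inr (Or.inr rfl))) ?_⟩
    rw [d.π_mul (d.hTN h.hxT) (d.hTN h.hyT), h.hπx, h.hπy, e]

theorem comm_A0 {a v : G} (ha : a ∈ d.A0) (hv : v ∈ h.V) :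
    v * a * v⁻¹ * a⁻¹ = 1 ∨ v * a * v⁻¹ * a⁻¹ = d.z := by
  have hvN := d.hTN (h.V_le_T hv)
  obtain ⟨h4, h2⟩ := d.hTim ⟨v, hvN⟩ (h.V_le_T hv)
  obtain ⟨s, hs, rfl⟩ := ha
  rw [inv_eq_of_mul_eq_one_right (d.hexp _ (d.f_mem s)), d.conj_f hvN, d.f_mul]
  rcases evenFour_commutator _ (d.hsign _) h2 h4 s hs with e | e <;> rw [e]
  · exact Or.inl d.f_empty
  · exact Or.inr d.z_eq

/-- The subgroup `A₀ V`. -/
def Q : Subgroup G where
  carrier := {q | ∃ a ∈ d.A0, ∃ v ∈ h.V, q = a * v}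
  one_mem' := ⟨1, one_mem _, 1, one_mem _, (one_mul 1).symm⟩
  mul_mem' := by
    rintro _ _ ⟨a, ha, v, hv, rfl⟩ ⟨b, hb, w, hw, rfl⟩
    refine ⟨a * (v * b * v⁻¹), mul_mem ha ?_, v * w, mul_mem hv hw, by group⟩
    exact d.conj_A0 (d.hTN (h.V_le_T hv)) (d.hTim _ (h.V_le_T hv)).1 hb
  inv_mem' := by
    rintro _ ⟨a, ha, v, hv, rfl⟩
    refine ⟨v⁻¹ * a⁻¹ * (v⁻¹)⁻¹, ?_, v⁻¹, inv_mem hv, by group⟩
    exact d.conj_A0 (d.hTN (h.V_le_T (inv_mem hv))) (d.hTim _ (h.V_le_T (inv_mem hv))).1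
      (inv_mem ha)

theorem Q_le_T : h.Q ≤ (d.T : Subgroup G) := by
  rintro _ ⟨a, ha, v, hv, rfl⟩; exact mul_mem (d.hAT (d.A0_le ha)) (h.V_le_T hv)

theorem A0_le_Q : d.A0 ≤ h.Q := fun a ha => ⟨a, ha, 1, one_mem _, (mul_one a).symm⟩

theorem V_le_Q : h.V ≤ h.Q := fun v hv => ⟨1, one_mem _, v, hv, (one_mul v).symm⟩

theorem Q_inf_A {q : G} (hq : q ∈ h.Q) (hqA : q ∈ d.A) : q ∈ d.A0 := by
  obtain ⟨a, ha, v, hv, rfl⟩ := hq
  have : v ∈ d.A := by
    have := mul_mem (inv_mem (d.A0_le ha)) hqA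
    rwa [inv_mul_cancel_left] at this
  rw [h.V_inf_A hv this, mul_one]; exact ha

theorem f0_not_mem_Q : d.f {0} ∉ h.Q := fun hq =>
  d.single_not_mem_A0 (by decide) (h.Q_inf_A hq (d.f_mem _))

theorem relIndex_Q : h.Q.relIndex (d.T : Subgroup G) = 2 := by
  rw [relIndex, index_eq_two_iff']
  refine ⟨⟨d.f {0}, d.hAT (d.f_mem _)⟩, fun t => ?_⟩
  simp only [mem_subgroupOf, Subgroup.coe_mul]
  by_cases ht : (t : G) ∈ h.Q
  · exact Or.inr ⟨ht, fun h' => h.f0_not_mem_Q (by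
      have := mul_mem h' (inv_mem ht); rwa [mul_inv_cancel_right] at this)⟩
  refine Or.inl ⟨?_, ht⟩
  obtain ⟨v, hv, hva⟩ := h.V_lift t.2
  have e : (t : G) = v * (v⁻¹ * t) := by group
  rcases d.mem_A0_or hva with h0 | h0
  · exact absurd (e ▸ mul_mem (h.V_le_Q hv) (h.A0_le_Q h0)) ht
  · have hvN := d.hTN (h.V_le_T hv)
    have h4 := (d.hTim ⟨v, hvN⟩ (h.V_le_T hv)).1
    -- the commutator of `w₀` and `v` lies in `A₀`
    have hc : d.f {0} * (v * d.f {0} * v⁻¹) ∈ d.A0 := by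
      rw [d.conj_f hvN, Finset.image_singleton, d.f_mul]
      by_cases h0' : d.π ⟨v, hvN⟩ 0 = 0
      · rw [h0', symmDiff_self]; exact ⟨∅, by decide, rfl⟩
      · refine ⟨_, ?_, rfl⟩
        rw [show symmDiff ({0} : Finset (Fin 5)) {d.π ⟨v, hvN⟩ 0} = {0, d.π ⟨v, hvN⟩ 0} from by
          ext i
          simp only [Finset.mem_symmDiff, Finset.mem_singleton, Finset.mem_insert]
          constructor
          · tauto
          · rintro (rfl | rfl)
            exacts [Or.inl ⟨rfl, Ne.symm h0'⟩, Or.inr ⟨rfl, h0'⟩]]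
        refine evenFour_pairs 0 _ (by decide) (fun e' => ?_) (Ne.symm h0')
        exact absurd ((d.π ⟨v, hvN⟩).injective (e'.trans h4.symm)) (by decide)
    have hee := d.hexp _ (d.f_mem {0})
    have : d.f {0} * (t : G) =
        (d.f {0} * (v * d.f {0} * v⁻¹)) * (v * (v⁻¹ * t * d.f {0})) := by
      calc d.f {0} * (t : G) = d.f {0} * v * (d.f {0} * d.f {0}) * (v⁻¹ * t) := by rw [hee]; group
        _ = (d.f {0} * (v * d.f {0} * v⁻¹)) * (v * (d.f {0} * (v⁻¹ * t))) := by group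
        _ = _ := by rw [d.hcomm _ (d.f_mem _) _ hva]
    rw [this]
    exact mul_mem (h.A0_le_Q hc) (mul_mem (h.V_le_Q hv) (h.A0_le_Q h0))

theorem card_Q : Nat.card h.Q = 32 := by
  have h1 := Subgroup.card_mul_index (h.Q.subgroupOf (d.T : Subgroup G))
  rw [Nat.card_congr (subgroupOfEquivOfLe h.Q_le_T).toEquiv, d.hT64,
    show (h.Q.subgroupOf (d.T : Subgroup G)).index = 2 from h.relIndex_Q] at h1
  omega

theorem Q_sq {q : G} (hq : q ∈ h.Q) : q * q = 1 ∨ q * q = d.z := by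
  obtain ⟨a, ha, v, hv, rfl⟩ := hq
  have e : a * v * (a * v) = a * a * (a⁻¹ * (v * a * v⁻¹ * a⁻¹) * a) * (v * v) := by group
  rw [e, d.hexp a (d.A0_le ha), h.V_sq hv, one_mul, mul_one]
  rcases h.comm_A0 ha hv with e' | e' <;> rw [e']
  · left; group
  · right; rw [mul_assoc, d.hcomm _ (d.f_mem _) a (d.A0_le ha), inv_mul_cancel_left]

theorem z_mem_Q : d.z ∈ h.Q := h.A0_le_Q d.z_mem_A0

theorem commute_z_Q {q : G} (hq : q ∈ h.Q) : q * d.z = d.z * q :=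
  mem_centralizer_singleton_iff.1 (d.T_le_centralizer_z (h.Q_le_T hq))

end Complement

end CfsgLib.SylAltEight
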