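import Cfsg.Agent.Lib.SylAltEight.Criterion
import Cfsg.Agent.Lib.SylAltEight.CentSingleFrame
import Cfsg.Agent.Lib.Transfer.Thompson
import Cfsg.Agent.Lib.Comp.BalanceReduce

/-!
# The centralizer of an involution of single type
-/

set_option autoImplicit false
set_option maxRecDepth 100000
set_option linter.style.haveILetI false

namespace CfsgLib.SylAltEight

open Subgroup Equiv

theorem perm_sigA_to_sigB : ∀ σ : Perm (Fin 5), σ * sigA = sigB * σ → σ 4 = 4 := by decide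

theorem four_perms_comm : ∀ ρ : Perm (Fin 5), Perm.sign ρ = 1 → ρ * ρ = 1 → ρ 4 = 4 →
    ρ * sigA = sigA * ρ ∧ ρ * sigB = sigB * ρ := by decide

theorem evenFour_eq_of_compl : ∀ s t : Finset (Fin 5), EvenFour s → EvenFour t →
    (s = t ∨ s = tᶜ) → s = t := by decide

universe u

variable {G : Type u} [Group G] [Finite G]

theorem odd_index_toSylow {P : Subgroup G} (hP : IsPGroup 2 P) (h : Odd P.index) :
    ∃ S : Sylow 2 G, (S : Subgroup G) = P := by
  haveI : Fact (Nat.Prime 2) := ⟨Nat.prime_two⟩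
  exact ⟨hP.toSylow (not_two_dvd_iff.2 h), IsPGroup.toSylow_coe _ _⟩

/-- A square-trivial action on an abelian Sylow 2-subgroup is trivial. -/
theorem mem_centralizer_of_sq (W : Sylow 2 G)
    (hc : ∀ a ∈ (W : Subgroup G), ∀ b ∈ (W : Subgroup G), a * b = b * a) {n : G}
    (hn : n ∈ normalizer ((W : Subgroup G) : Set G))
    (h2 : n * n ∈ centralizer ((W : Subgroup G) : Set G)) :
    n ∈ centralizer ((W : Subgroup G) : Set G) := by
  haveI : Fact (Nat.Prime 2) := ⟨Nat.prime_two⟩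
  obtain ⟨q, ⟨j, hj⟩, hp⟩ := Invol.exists_odd_pow n
  have hle : IsPGroup 2 ↥(zpowers (n ^ q) ⊔ (W : Subgroup G)) :=
    hp.to_sup_of_normal_right' W.2 (zpowers_le.2 (pow_mem hn q))
  have hW : n ^ q ∈ (W : Subgroup G) := by
    rw [← W.3 hle le_sup_right]; exact mem_sup_left (mem_zpowers _)
  have hq : n ^ q ∈ centralizer ((W : Subgroup G) : Set G) :=
    mem_centralizer_iff.2 fun w hw => hc w hw _ hW
  have e : n = n ^ q * ((n * n) ^ j)⁻¹ := by
    rw [hj, pow_succ', pow_mul, pow_two, mul_inv_cancel_right]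
  rw [e]
  exact mul_mem hq (inv_mem (pow_mem h2 j))

/-- An odd subgroup normalized modulo the core lies in the core. -/
theorem le_core_of_normalized {a : G} {E : Subgroup G} (hE : E ≤ centralizer ({a} : Set G))
    (ho : Odd (Nat.card E))
    (hdec : ∀ g ∈ centralizer ({a} : Set G), ∃ n ∈ centralizer ({a} : Set G),
      n ∈ normalizer (E : Set G) ∧ ∃ o ∈ Cfsg.centralizerPPrimeCore 2 a, g = n * o) :
    E ≤ Cfsg.centralizerPPrimeCore 2 a := by
  let C := centralizer ({a} : Set G)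
  haveI : (Cfsg.oddCore C).Normal := Solvable.pPrimeCore_normal 2 C
  let π := QuotientGroup.mk' (Cfsg.oddCore C)
  let Ē := (E.subgroupOf C).map π
  haveI hn : Ē.Normal := by
    refine ⟨?_⟩
    rintro _ ⟨e, he, rfl⟩ q
    obtain ⟨g, rfl⟩ := QuotientGroup.mk'_surjective _ q
    obtain ⟨n, hnC, hnE, o, ho', hgn⟩ := hdec g g.2
    obtain ⟨hoC, hoo⟩ := mem_core_iff.1 ho'
    have e1 : π g = π ⟨n, hnC⟩ := by
      rw [show g = (⟨n, hnC⟩ : C) * ⟨o, hoC⟩ from Subtype.ext hgn, map_mul,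
        show π ⟨o, hoC⟩ = 1 from (QuotientGroup.eq_one_iff _).2 hoo, mul_one]
    rw [e1, ← map_inv, ← map_mul, ← map_mul]
    exact mem_map_of_mem π ((mem_normalizer_iff.1 hnE (e : G)).1 he)
  have hodd : Odd (Nat.card Ē) := by
    refine ho.of_dvd_nat ?_
    rw [← Nat.card_congr (subgroupOfEquivOfLe hE).toEquiv]
    exact card_map_dvd _ _
  have hbot : Ē ≤ ⊥ := by
    rw [← Solvable.pPrimeCore_quotient_eq_bot (G := C) 2]
    exact Invol.le_oddCore hn hodd
  intro e he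
  exact mem_core_iff.2 ⟨hE he, (QuotientGroup.eq_one_iff _).1
    (hbot (mem_map_of_mem π (show (⟨e, hE he⟩ : C) ∈ E.subgroupOf C from he)))⟩

namespace Data

variable (d : Data G)

/-- The odd core of the centralizer of the even part. -/
def E0 : Subgroup G :=
  (Cfsg.oddCore ↥(centralizer (d.A0 : Set G))).map (centralizer (d.A0 : Set G)).subtype

theorem A_le_C0 : d.A ≤ centralizer (d.A0 : Set G) := fun a ha =>
  mem_centralizer_iff.2 fun b hb => d.hcomm b (d.A0_le hb) a ha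

theorem C0_le_X : centralizer (d.A0 : Set G) ≤ centralizer ({d.z} : Set G) := fun _ hc =>
  mem_centralizer_singleton_iff.2 (mem_centralizer_iff.1 hc d.z d.z_mem_A0).symm

theorem isSylow_A_C0 :
    ∃ S : Sylow 2 ↥(centralizer (d.A0 : Set G)),
      (S : Subgroup ↥(centralizer (d.A0 : Set G))) = d.A.subgroupOf _ := by
  haveI : Fact (Nat.Prime 2) := ⟨Nat.prime_two⟩
  obtain ⟨R, hR⟩ := ((d.T.2.to_le d.hAT).comap_subtype
    (K := centralizer (d.A0 : Set G))).exists_le_sylow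
  refine ⟨R, le_antisymm ?_ hR⟩
  intro r hr
  by_contra hne
  haveI := R.2.isNilpotent
  let B : Subgroup ↥(R : Subgroup ↥(centralizer (d.A0 : Set G))) :=
    (d.A.subgroupOf _).subgroupOf _
  have hB : B < ⊤ := lt_top_iff_ne_top.2 fun e => hne (show (⟨r, hr⟩ :
    ↥(R : Subgroup ↥(centralizer (d.A0 : Set G)))) ∈ B from e ▸ mem_top _)
  obtain ⟨s, hs, hsB⟩ := SetLike.exists_of_lt (Group.normalizerCondition_of_isNilpotent B hB)
  have hsN : ((s : ↥(centralizer (d.A0 : Set G))) : G) ∈ normalizer (d.A : Set G) := by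
    refine Invol.mem_normalizer_iff_of_finite fun a ha => ?_
    exact (mem_normalizer_iff.1 hs
      (⟨⟨a, d.A_le_C0 ha⟩, hR ha⟩ : ↥(R : Subgroup ↥(centralizer (d.A0 : Set G))))).1 ha
  have hk : d.π ⟨_, hsN⟩ = 1 := d.π_centralizing_A0 hsN fun a ha =>
    (mem_centralizer_iff.1 (s : ↥(centralizer (d.A0 : Set G))).2 a ha).symm
  obtain ⟨a, ha, e, he, h'⟩ := (d.hker _).1 hk
  have h' : ((s : ↥(centralizer (d.A0 : Set G))) : G) = a * e := h'
  apply hsB
  show ((s : ↥(centralizer (d.A0 : Set G))) : G) ∈ d.A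
  have hp : IsPGroup 2 ↥((R : Subgroup ↥(centralizer (d.A0 : Set G))).map (Subgroup.subtype _)) :=
    R.2.map _
  have he1 : e = 1 := by
    refine eq_one_of_pGroup_odd hp d.hDodd ?_ he
    rw [show e = a⁻¹ * ((s : ↥(centralizer (d.A0 : Set G))) : G) by rw [h']; group]
    exact mul_mem (inv_mem ⟨⟨a, d.A_le_C0 ha⟩, hR ha, rfl⟩) ⟨_, s.2, rfl⟩
  rw [h', he1, mul_one]; exact ha

theorem C0_split {c : G} (hc : c ∈ centralizer (d.A0 : Set G)) :
    ∃ a ∈ d.A, ∃ e ∈ d.E0, c = a * e := by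
  obtain ⟨S, hS⟩ := d.isSylow_A_C0
  obtain ⟨w, hw, o, ho, e⟩ := exists_eq_mul_oddCore S (fun y hy => by
    have hyN : (y : G) ∈ normalizer (d.A : Set G) := by
      refine Invol.mem_normalizer_iff_of_finite fun a ha => ?_
      rw [hS] at hy
      exact (mem_normalizer_iff.1 hy (⟨a, d.A_le_C0 ha⟩ : ↥(centralizer (d.A0 : Set G)))).1 ha
    have hk : d.π ⟨_, hyN⟩ = 1 := d.π_centralizing_A0 hyN fun a ha =>
      (mem_centralizer_iff.1 y.2 a ha).symm
    refine mem_centralizer_iff.2 fun w hw => Subtype.ext ?_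
    rw [hS] at hw
    exact (d.commute_of_ker hyN hk hw).symm) ⟨c, hc⟩
  rw [hS] at hw
  exact ⟨w, hw, o, ⟨o, ho, rfl⟩, congrArg Subtype.val e⟩

theorem exists_fix_normalizing {n : G} (hn : n ∈ normalizer (d.A0 : Set G)) :
    ∃ c ∈ centralizer (d.A0 : Set G), c * n ∈ normalizer (d.A : Set G) := by
  haveI : Fact (Nat.Prime 2) := ⟨Nat.prime_two⟩
  obtain ⟨S, hS⟩ := d.isSylow_A_C0
  set B := d.A.map (MulAut.conj n).toMonoidHom
  have hB : B ≤ centralizer (d.A0 : Set G) := by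
    rintro _ ⟨a, ha, rfl⟩
    refine mem_centralizer_iff.2 fun b hb => ?_
    have hb' : n⁻¹ * b * n ∈ d.A0 := (mem_normalizer_iff''.1 hn b).1 hb
    show b * (n * a * n⁻¹) = n * a * n⁻¹ * b
    calc b * (n * a * n⁻¹) = n * ((n⁻¹ * b * n) * a) * n⁻¹ := by group
      _ = n * (a * (n⁻¹ * b * n)) * n⁻¹ := by rw [d.hcomm _ (d.A0_le hb') a ha]
      _ = _ := by group
  obtain ⟨c, hc⟩ := Invol.exists_conj_mem_sylow S
    (((d.T.2.to_le d.hAT).map (MulAut.conj n).toMonoidHom).comap_subtype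
      (K := centralizer (d.A0 : Set G)))
  refine ⟨c, c.2, Invol.mem_normalizer_iff_of_finite fun a ha => ?_⟩
  have hm : n * a * n⁻¹ ∈ B := ⟨a, ha, rfl⟩
  have h := hc ⟨n * a * n⁻¹, hB hm⟩ hm
  change _ ∈ (S : Subgroup ↥(centralizer (d.A0 : Set G))) at h
  rw [hS] at h
  simpa [mem_subgroupOf, mul_assoc] using h

/-- The centralizer of `z` is generated by the normalizer and the core. -/
theorem cent_z (h3 : ThreeClasses G) {g : G} (hg : g ∈ centralizer ({d.z} : Set G)) :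
    ∃ n ∈ normalizer (d.A : Set G), ∃ o ∈ Cfsg.centralizerPPrimeCore 2 d.z, g = n * o := by
  classical
  haveI : Fact (Nat.Prime 2) := ⟨Nat.prime_two⟩
  obtain ⟨x, y, hV⟩ := d.exists_complement' h3
  set X := centralizer ({d.z} : Set G) with hX
  have hTX : (d.T : Subgroup G) ≤ X := d.T_le_centralizer_z
  have hNX : ∀ n, ∀ hn : n ∈ normalizer (d.A : Set G), d.π ⟨n, hn⟩ 4 = 4 → n ∈ X :=
    fun n hn h4 => mem_centralizer_singleton_iff.2 ((d.fixes_z_iff hn).2 h4)
  have hAX : d.A ≤ X := d.hAT.trans hTX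
  have hzz : d.z * d.z = 1 := d.hexp _ (d.f_mem _)
  have hmemZ : ∀ u, u ∈ zpowers d.z ↔ u = 1 ∨ u = d.z := fun u => by
    constructor
    · intro h
      obtain ⟨k, rfl⟩ := mem_zpowers_iff.1 h
      rcases Int.even_or_odd k with ⟨j, rfl⟩ | ⟨j, rfl⟩
      · left; rw [← two_mul, zpow_mul, zpow_two, hzz, one_zpow]
      · right; rw [zpow_add, zpow_mul, zpow_two, hzz, one_zpow, one_mul, zpow_one]
    · rintro (rfl | rfl)
      exacts [one_mem _, mem_zpowers _]
  -- transfer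
  set TX : Sylow 2 X := d.T.subtype hTX
  have hrel : (hV.Q.subgroupOf X).relIndex (TX : Subgroup X) = 2 := by
    rw [show (TX : Subgroup X) = (d.T : Subgroup G).subgroupOf X from rfl, relIndex_subgroupOf hTX]
    exact hV.relIndex_Q
  obtain ⟨M, hMn, hM2, huM⟩ | ⟨c, hc⟩ := Transfer.thompson_transfer_involution TX
      (Q := hV.Q.subgroupOf X) (fun q hq => hV.Q_le_T hq) hrel
      (u := ⟨d.f {0}, hAX (d.f_mem _)⟩) (Subtype.ext (by
        rw [pow_two]; exact d.hexp _ (d.f_mem _))) (d.hAT (d.f_mem _))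
  swap
  · exfalso
    have hc' : (c : G) * d.f {0} * (c : G)⁻¹ ∈ hV.Q := hc
    have hA := d.strongly_closed h3 (d.f_mem {0}) (d.hTN (hV.Q_le_T hc'))
    obtain ⟨k, hk⟩ := d.single_of_conj hA (isConj_iff.2 ⟨(c : G), rfl⟩)
    have h0 := hV.Q_inf_A hc' hA
    rw [hk] at h0
    obtain rfl : k = 4 := by
      by_contra hk4; exact d.single_not_mem_A0 hk4 h0
    have hcz : (c : G) * d.z = d.z * (c : G) := mem_centralizer_singleton_iff.1 c.2
    have e : d.f {0} = d.z := by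
      calc d.f {0} = (c : G)⁻¹ * ((c : G) * d.f {0} * (c : G)⁻¹) * (c : G) := by group
        _ = (c : G)⁻¹ * (d.z * (c : G)) := by rw [hk, mul_assoc]
        _ = d.z := by rw [← hcz, inv_mul_cancel_left]
    exact d.single_not_mem_A0 (by decide) (e ▸ d.z_mem_A0)
  set MG : Subgroup G := M.map X.subtype with hMG
  have hMGX : MG ≤ X := map_subtype_le M
  have hmem : ∀ u, ∀ hu : u ∈ X, (u ∈ MG ↔ (⟨u, hu⟩ : X) ∈ M) := fun u hu =>
    mem_map_iff_mem X.subtype_injective (x := (⟨u, hu⟩ : X))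
  have hparity : ∀ u ∈ X, ∀ v ∈ X, (u * v ∈ MG ↔ (u ∈ MG ↔ v ∈ MG)) := fun u hu v hv => by
    rw [hmem _ hu, hmem _ hv, hmem _ (mul_mem hu hv)]
    exact mul_mem_iff_of_index_two (a := (⟨u, hu⟩ : X)) (b := ⟨v, hv⟩) hM2
  have hconj : ∀ c ∈ X, ∀ u ∈ MG, c * u * c⁻¹ ∈ MG := by
    rintro c hc _ ⟨u, hu, rfl⟩
    exact ⟨_, hMn.conj_mem u hu ⟨c, hc⟩, rfl⟩
  have hsingle : ∀ i : Fin 5, i ≠ 4 → d.f {i} ∉ MG := fun i hi h => by
    obtain ⟨σ, hσ, h4, hσi⟩ := perm_fix_four_trans i 0 hi (by decide)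
    obtain ⟨n, hn, e⟩ := d.lift hσ
    have h' := hconj n (hNX n hn (by rw [e, h4])) _ h
    rw [d.conj_f hn, e, Finset.image_singleton, hσi] at h'
    exact huM ((hmem _ (hAX (d.f_mem _))).1 h')
  have hpair : ∀ i j : Fin 5, i ≠ 4 → j ≠ 4 → i ≠ j → d.f {i, j} ∈ MG := fun i j hi hj hij => by
    have e : d.f {i, j} = d.f {i} * d.f {j} := by
      rw [d.f_mul]; congr 1
      ext k
      simp only [Finset.mem_symmDiff, Finset.mem_singleton, Finset.mem_insert]
      constructor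
      · rintro (rfl | rfl)
        exacts [Or.inl ⟨rfl, hij⟩, Or.inr ⟨rfl, Ne.symm hij⟩]
      · tauto
    rw [e, hparity _ (hAX (d.f_mem _)) _ (hAX (d.f_mem _))]
    exact iff_of_false (hsingle i hi) (hsingle j hj)
  have hA0M : d.A0 ≤ MG := by
    rintro _ ⟨s, hs, rfl⟩
    rcases evenFour_cases s hs with rfl | ⟨i, j, hi, hj, hij, rfl⟩ | rfl
    · rw [d.f_empty]; exact one_mem _
    · exact hpair i j hi hj hij
    · rw [show ({0, 1, 2, 3} : Finset (Fin 5)) = symmDiff {0, 1} {2, 3} from by decide, ← d.f_mul]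
      exact mul_mem (hpair 0 1 (by decide) (by decide) (by decide))
        (hpair 2 3 (by decide) (by decide) (by decide))
  have hxA : x ∉ d.A := fun h => sig_facts.2.2.2.1 (hV.hπx.symm.trans (d.π_of_mem h))
  have hyA : y ∉ d.A := fun h => sig_facts.2.2.2.2.2.2.2.1 (hV.hπy.symm.trans (d.π_of_mem h))
  have hxy' : x ∈ MG ∧ y ∈ MG := by
    -- `y` is conjugate to `x` in `X`, and so is `xy`
    have key : ∀ (a b : G) (haT : a ∈ (d.T : Subgroup G)) (hbT : b ∈ (d.T : Subgroup G)),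
        a * a = 1 → b * b = 1 → a ∉ d.A → b ∉ d.A →
        (∀ n, ∀ hn : n ∈ normalizer (d.A : Set G), n * a * n⁻¹ = b → d.π ⟨n, hn⟩ 4 = 4) →
        a ∈ MG → b ∈ MG := by
      intro a b haT hbT haa hbb haA hbA hfix ha
      obtain ⟨n, hn, e⟩ := d.outside_conj (d.hTN haT) (d.hTN hbT) haa hbb haA hbA
      rw [← e]; exact hconj n (hNX n hn (hfix n hn e)) a ha
    have hfixA : ∀ n, ∀ hn : n ∈ normalizer (d.A : Set G), n * x * n⁻¹ = y →
        d.π ⟨n, hn⟩ 4 = 4 := by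
      intro n hn e
      refine perm_sigA_to_sigB _ ?_
      have e' : n * x = y * n := mul_inv_eq_iff_eq_mul.1 e
      rw [← hV.hπx, ← hV.hπy, ← d.π_mul hn, ← d.π_mul _ hn]
      exact congrArg d.π (Subtype.ext e')
    have hfixB : ∀ n, ∀ hn : n ∈ normalizer (d.A : Set G), n * y * n⁻¹ = x →
        d.π ⟨n, hn⟩ 4 = 4 := by
      intro n hn e
      have e2 := hfixA n⁻¹ (inv_mem hn) (by rw [← e]; group)
      rw [d.π_inv hn, Perm.inv_eq_iff_eq] at e2
      exact e2.symm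
    have h1 : x ∈ MG ↔ y ∈ MG := ⟨key x y hV.hxT hV.hyT hV.hxx hV.hyy hxA hyA hfixA,
      key y x hV.hyT hV.hxT hV.hyy hV.hxx hyA hxA hfixB⟩
    have hxyM : x * y ∈ MG := (hparity x (hTX hV.hxT) y (hTX hV.hyT)).2 h1
    by_cases hxM : x ∈ MG
    · exact ⟨hxM, h1.1 hxM⟩
    exfalso
    -- `x y` lies in `MG` and is conjugate to `x` in `X`
    have hxyA : x * y ∉ d.A := fun h => by
      have e := d.π_of_mem h
      rw [d.π_mul (d.hTN hV.hxT) (d.hTN hV.hyT), hV.hπx, hV.hπy] at e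
      exact sig_facts.2.2.2.2.2.2.2.2.2 (by
        rw [eq_inv_of_mul_eq_one_left e]; exact inv_eq_of_mul_eq_one_right sig_facts.2.2.2.2.2.1)
    refine hxM (key (x * y) x (mul_mem hV.hxT hV.hyT) hV.hxT
      (hV.V_sq (Or.inr (Or.inr (Or.inr rfl)))) hV.hxx hxyA hxA ?_ hxyM)
    intro n hn e
    have hk : ∀ σ : Perm (Fin 5), σ * (sigA * sigB) = sigA * σ → σ 4 = 4 := by decide
    refine hk _ ?_
    have e' : n * (x * y) = x * n := mul_inv_eq_iff_eq_mul.1 e
    rw [← hV.hπx, ← hV.hπy, ← d.π_mul (d.hTN hV.hxT) (d.hTN hV.hyT), ← d.π_mul hn,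
      ← d.π_mul _ hn]
    exact congrArg d.π (Subtype.ext e')
  have hQM : hV.Q ≤ MG := by
    rintro _ ⟨a, ha, v, hv, rfl⟩
    refine mul_mem (hA0M ha) ?_
    rcases hv with rfl | rfl | rfl | rfl
    exacts [one_mem _, hxy'.1, hxy'.2, mul_mem hxy'.1 hxy'.2]
  -- the quotient
  have hzM : d.z ∈ MG := hA0M d.z_mem_A0
  haveI : ((zpowers d.z).subgroupOf MG).Normal := ⟨fun u hu c => by
    rw [mem_subgroupOf] at hu ⊢
    rcases (hmemZ _).1 hu with e | e
    · rw [Subgroup.coe_mul, Subgroup.coe_mul, e, mul_one, Subgroup.coe_inv, mul_inv_cancel]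
      exact one_mem _
    · rw [Subgroup.coe_mul, Subgroup.coe_mul, e,
        mem_centralizer_singleton_iff.1 (hMGX c.2), Subgroup.coe_inv, mul_inv_cancel_right]
      exact mem_zpowers _⟩
  let φ : ↥MG →* ↥MG ⧸ (zpowers d.z).subgroupOf MG := QuotientGroup.mk' _
  have hφs : Function.Surjective φ := QuotientGroup.mk'_surjective _
  have hφ1 : ∀ u : ↥MG, φ u = 1 ↔ (u : G) = 1 ∨ (u : G) = d.z := fun u =>
    (QuotientGroup.eq_one_iff u).trans (mem_subgroupOf.trans (hmemZ _))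
  have hφeq : ∀ u v : ↥MG, φ u = φ v → (u : G) = v ∨ (u : G) = d.z * v := fun u v e => by
    have h := (hφ1 (u * v⁻¹)).1 (by rw [map_mul, e, map_inv, mul_inv_cancel])
    simp only [Subgroup.coe_mul, Subgroup.coe_inv] at h
    exact h.imp mul_inv_eq_one.1 mul_inv_eq_iff_eq_mul.1
  let QM := hV.Q.subgroupOf MG
  have hQMp : IsPGroup 2 QM := (d.T.2.to_le hV.Q_le_T).comap_subtype
  have hQM32 : Nat.card QM = 32 := by
    rw [Nat.card_congr (subgroupOfEquivOfLe hQM).toEquiv, hV.card_Q]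
  have hQMi : Odd QM.index := by
    have h1 : Nat.card MG * 2 = Nat.card X := by
      rw [hMG, card_map_of_injective X.subtype_injective, ← hM2, card_mul_index]
    have h2 := card_mul_index (TX : Subgroup X)
    rw [show Nat.card (TX : Subgroup X) = 64 by
      rw [show (TX : Subgroup X) = (d.T : Subgroup G).subgroupOf X from rfl,
        Nat.card_congr (subgroupOfEquivOfLe hTX).toEquiv, d.hT64]] at h2
    have h3' := card_mul_index QM
    rw [hQM32] at h3'
    rw [show QM.index = (TX : Subgroup X).index by omega]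
    exact not_two_dvd_iff.1 TX.not_dvd_index
  obtain ⟨W, hW⟩ := odd_index_toSylow (hQMp.map φ) (hQMi.of_dvd_nat (index_map_dvd QM hφs))
  have hWmem : ∀ w ∈ (W : Subgroup (↥MG ⧸ (zpowers d.z).subgroupOf MG)), ∃ q : ↥MG, (q : G) ∈ hV.Q ∧ φ q = w := fun w hw => by
    rw [hW] at hw; exact hw
  have hWof : ∀ q : ↥MG, (q : G) ∈ hV.Q → φ q ∈ (W : Subgroup (↥MG ⧸ (zpowers d.z).subgroupOf MG)) := fun q hq =>
    hW.symm ▸ mem_map_of_mem φ hq
  have hWexp : ∀ w ∈ (W : Subgroup (↥MG ⧸ (zpowers d.z).subgroupOf MG)), w * w = 1 := fun w hw => by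
    obtain ⟨q, hq, rfl⟩ := hWmem w hw
    rw [← map_mul, hφ1]; exact hV.Q_sq hq
  have hWc : ∀ a ∈ (W : Subgroup (↥MG ⧸ (zpowers d.z).subgroupOf MG)), ∀ b ∈ (W : Subgroup (↥MG ⧸ (zpowers d.z).subgroupOf MG)), a * b = b * a := fun a ha b hb => by
    rw [← inv_eq_of_mul_eq_one_right (hWexp _ (mul_mem ha hb)), mul_inv_rev,
      inv_eq_of_mul_eq_one_right (hWexp _ ha), inv_eq_of_mul_eq_one_right (hWexp _ hb)]
  have hW8 : 2 ^ 3 ≤ Nat.card (W : Subgroup (↥MG ⧸ (zpowers d.z).subgroupOf MG)) := by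
    rw [hW, ← range_subtype QM, ← MonoidHom.range_comp]
    have h := card_eq_card_quotient_mul_card_subgroup (φ.comp QM.subtype).ker
    rw [Nat.card_congr (QuotientGroup.quotientKerEquivRange _).toEquiv, hQM32] at h
    have hk : Nat.card (φ.comp QM.subtype).ker ≤ 2 := by
      refine le_trans (Nat.card_le_card_of_injective (β := ({1, d.z} : Finset G))
        (fun u => ⟨(((u : QM) : ↥MG) : G), by simpa using (hφ1 _).1 u.2⟩)
        fun u v e => Subtype.ext (Subtype.ext (Subtype.ext (congrArg Subtype.val e :)))) ?_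
      rw [Nat.card_eq_finsetCard]
      exact Finset.card_le_two
    nlinarith
  have hnormA0 : ∀ n : ↥MG, φ n ∈ normalizer ((W : Subgroup (↥MG ⧸ (zpowers d.z).subgroupOf MG)) : Set _) →
      (∀ q ∈ hV.Q, (n : G) * q * (n : G)⁻¹ ∈ hV.Q) ∧ (n : G) ∈ normalizer (d.A0 : Set G) := by
    intro n hn
    have hq : ∀ q ∈ hV.Q, (n : G) * q * (n : G)⁻¹ ∈ hV.Q := fun q hq => by
      have h1 := (mem_normalizer_iff.1 hn _).1 (hWof ⟨q, hQM hq⟩ hq)
      obtain ⟨r, hr, e⟩ := hWmem _ h1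
      rw [← map_inv, ← map_mul, ← map_mul] at e
      rcases hφeq _ _ e.symm with e' | e' <;>
        simp only [Subgroup.coe_mul, Subgroup.coe_inv] at e' <;> rw [e']
      exacts [hr, mul_mem hV.z_mem_Q hr]
    refine ⟨hq, Invol.mem_normalizer_iff_of_finite fun a ha => ?_⟩
    have h1 := hq a (hV.A0_le_Q ha)
    exact hV.Q_inf_A h1 (d.strongly_closed h3 (d.A0_le ha) (d.hTN (hV.Q_le_T h1)))
  have hfpf : ∀ n ∈ normalizer ((W : Subgroup (↥MG ⧸ (zpowers d.z).subgroupOf MG)) : Set _),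
      n ∈ centralizer ((W : Subgroup (↥MG ⧸ (zpowers d.z).subgroupOf MG)) : Set _) ∨
        ∀ w ∈ (W : Subgroup (↥MG ⧸ (zpowers d.z).subgroupOf MG)), n * w * n⁻¹ = w → w = 1 := by
    intro nb hnb
    obtain ⟨n, rfl⟩ := hφs nb
    obtain ⟨hnQ, hnA0⟩ := hnormA0 n hnb
    obtain ⟨c, hc, hm⟩ := d.exists_fix_normalizing hnA0
    have hmX : c * (n : G) ∈ X := mul_mem (d.C0_le_X hc) (hMGX n.2)
    set ρ := d.π ⟨c * n, hm⟩ with hρ
    have h4 : ρ 4 = 4 := (d.fixes_z_iff hm).1 (mem_centralizer_singleton_iff.1 hmX)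
    have hsρ : Perm.sign ρ = 1 := d.hsign _
    have hact : ∀ s, EvenFour s → (n : G) * d.f s * (n : G)⁻¹ = d.f (s.image ρ) := by
      intro s hs
      have hb : (n : G) * d.f s * (n : G)⁻¹ ∈ d.A0 :=
        (mem_normalizer_iff.1 hnA0 _).1 ⟨s, hs, rfl⟩
      rw [hρ, ← d.conj_f hm s]
      have hcb := mem_centralizer_iff.1 hc _ hb
      calc (n : G) * d.f s * (n : G)⁻¹ = c * ((n : G) * d.f s * (n : G)⁻¹) * c⁻¹ := by
            rw [← hcb, mul_inv_cancel_right]
        _ = _ := by group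
    have hπq : ∀ q, ∀ hq : q ∈ hV.Q, d.π ⟨(n : G) * q * (n : G)⁻¹, d.hTN (hV.Q_le_T (hnQ q hq))⟩ =
        ρ * d.π ⟨q, d.hTN (hV.Q_le_T hq)⟩ * ρ⁻¹ := by
      intro q hq
      have hqN := d.hTN (hV.Q_le_T hq)
      have hq'T := hV.Q_le_T (hnQ q hq)
      set q' := (n : G) * q * (n : G)⁻¹
      have h2 : c * n * q * (c * n)⁻¹ ∈ normalizer (d.A : Set G) :=
        mul_mem (mul_mem hm hqN) (inv_mem hm)
      have hu : (c * n * q * (c * n)⁻¹)⁻¹ * q' ∈ normalizer (d.A : Set G) :=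
        mul_mem (inv_mem h2) (d.hTN hq'T)
      have h := d.π_centralizing_A0 hu fun a ha => by
        have hb : q' * a * q'⁻¹ ∈ d.A0 :=
          d.conj_A0 (d.hTN hq'T) (d.hTim ⟨q', d.hTN hq'T⟩ hq'T).1 ha
        have hca : a * c = c * a := mem_centralizer_iff.1 hc a ha
        have hcb : q' * a * q'⁻¹ * c = c * (q' * a * q'⁻¹) := mem_centralizer_iff.1 hc _ hb
        rw [show c * n * q * (c * n)⁻¹ = c * q' * c⁻¹ by
          show _ = c * ((n : G) * q * (n : G)⁻¹) * c⁻¹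
          group]
        calc (c * q' * c⁻¹)⁻¹ * q' * a = c * q'⁻¹ * c⁻¹ * (q' * a * q'⁻¹) * q' := by group
          _ = c * q'⁻¹ * c⁻¹ * ((q' * a * q'⁻¹) * c) * (c⁻¹ * q') := by group
          _ = c * a * q'⁻¹ * c⁻¹ * q' := by rw [hcb]; group
          _ = a * ((c * q' * c⁻¹)⁻¹ * q') := by rw [← hca]; group
      rw [d.π_mul (inv_mem h2) (d.hTN hq'T), d.π_inv h2, inv_mul_eq_one] at h
      rw [← h, d.π_mul (mul_mem hm hqN) (inv_mem hm), d.π_mul hm hqN, d.π_inv hm]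
    by_cases hρ2 : ρ * ρ = 1
    · left
      have hA0fix : ∀ a, ∀ ha : a ∈ d.A0,
          φ n * φ ⟨a, hA0M ha⟩ * (φ n)⁻¹ = φ ⟨a, hA0M ha⟩ := by
        rintro _ ⟨s, hs, rfl⟩
        rw [← map_inv, ← map_mul, ← map_mul, ← mul_inv_eq_one, ← map_inv, ← map_mul, hφ1]
        simp only [Subgroup.coe_mul, Subgroup.coe_inv]
        rw [hact s hs, inv_eq_of_mul_eq_one_right (d.hexp _ (d.f_mem s)), d.f_mul]
        rcases evenFour_commutator _ hsρ hρ2 h4 s hs with e | e <;> rw [e]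
        exacts [Or.inl d.f_empty, Or.inr d.z_eq]
      refine mem_centralizer_of_sq W hWc hnb (mem_centralizer_iff.2 fun w hw => ?_)
      obtain ⟨q, hq, rfl⟩ := hWmem w hw
      -- `n` moves `q` by an element of `A₀`
      have hsame : d.π ⟨(n : G) * q * (n : G)⁻¹, d.hTN (hV.Q_le_T (hnQ _ hq))⟩ =
          d.π ⟨q, d.hTN (hV.Q_le_T hq)⟩ := by
        rw [hπq _ hq]
        obtain ⟨h4q, h2q⟩ := d.hTim ⟨(q : G), d.hTN (hV.Q_le_T hq)⟩ (hV.Q_le_T hq)
        obtain ⟨cA, cB⟩ := four_perms_comm ρ hsρ hρ2 h4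
        rw [mul_inv_eq_iff_eq_mul]
        rcases four_perms_cases _ (d.hsign _) h2q h4q with e | e | e | e <;> rw [e]
        · rw [mul_one, one_mul]
        · exact cA
        · exact cB
        · rw [← mul_assoc, cA, mul_assoc, cB, mul_assoc]
      have hq'T := hV.Q_le_T (hnQ _ hq)
      have ha := hV.Q_inf_A (mul_mem (hnQ _ hq) (inv_mem hq))
        (d.mem_A_of_ker (mul_mem hq'T (inv_mem (hV.Q_le_T hq))) (by
          rw [d.π_mul (d.hTN hq'T) (inv_mem (d.hTN (hV.Q_le_T hq))), d.π_inv (d.hTN (hV.Q_le_T hq)), hsame,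
            mul_inv_cancel]))
      set a : ↥MG := ⟨_, hA0M ha⟩
      have e1 : φ n * φ q * (φ n)⁻¹ = φ a * φ q := by
        rw [← map_inv, ← map_mul, ← map_mul, ← map_mul]
        exact congrArg φ (Subtype.ext (by simp [a]))
      have e2 : φ n * φ a * (φ n)⁻¹ = φ a := hA0fix _ ha
      have e3 : φ a * φ a = 1 := by
        rw [← map_mul, hφ1]; exact Or.inl (d.hexp _ (d.A0_le ha))
      symm
      calc φ n * φ n * φ q = φ n * (φ n * φ q * (φ n)⁻¹) * (φ n)⁻¹ * (φ n * φ n) := by group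
        _ = φ n * (φ a * φ q) * (φ n)⁻¹ * (φ n * φ n) := by rw [e1]
        _ = (φ n * φ a * (φ n)⁻¹) * (φ n * φ q * (φ n)⁻¹) * (φ n * φ n) := by group
        _ = φ a * (φ a * φ q) * (φ n * φ n) := by rw [e2, e1]
        _ = φ q * (φ n * φ n) := by rw [← mul_assoc (φ a), e3, one_mul]
    · right
      intro w hw hfix
      obtain ⟨q, hq, rfl⟩ := hWmem w hw
      rw [← map_inv, ← map_mul, ← map_mul] at hfix
      have hqT := hV.Q_le_T hq
      have hfix' : (n : G) * q * (n : G)⁻¹ = q ∨ (n : G) * q * (n : G)⁻¹ = d.z * q := by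
        simpa using hφeq _ _ hfix
      have hsame : d.π ⟨(n : G) * q * (n : G)⁻¹, d.hTN (hV.Q_le_T (hnQ _ hq))⟩ =
          d.π ⟨q, d.hTN hqT⟩ := by
        rcases hfix' with e | e
        · exact congrArg d.π (Subtype.ext e)
        · rw [show (⟨(n : G) * q * (n : G)⁻¹, d.hTN (hV.Q_le_T (hnQ _ hq))⟩ :
              ↥(normalizer (d.A : Set G))) = ⟨d.z, le_normalizer (d.f_mem _)⟩ * ⟨q, d.hTN hqT⟩ from
            Subtype.ext e, map_mul, d.π_of_mem (d.f_mem _), one_mul]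
      rw [hπq _ hq, mul_inv_eq_iff_eq_mul] at hsame
      obtain ⟨h4q, h2q⟩ := d.hTim ⟨(q : G), d.hTN hqT⟩ hqT
      obtain ⟨nA, nB, nC⟩ := perm_centralizes_sigA ρ hsρ h4 hρ2
      have hq1 : d.π ⟨q, d.hTN hqT⟩ = 1 := by
        rcases four_perms_cases _ (d.hsign _) h2q h4q with e | e | e | e
        · exact e
        all_goals rw [e] at hsame
        exacts [absurd hsame nA, absurd hsame nB, absurd hsame nC]
      obtain ⟨s, hs, e⟩ := hV.Q_inf_A hq (d.mem_A_of_ker hqT hq1)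
      rw [e, hact s hs] at hfix'
      have hsi : EvenFour (s.image ρ) := by
        refine ⟨fun h => hs.1 ?_, by rw [Finset.card_image_of_injective _ ρ.injective]; exact hs.2⟩
        obtain ⟨i, hi, he⟩ := Finset.mem_image.1 h
        rwa [← ρ.injective (he.trans h4.symm)]
      have hst : symmDiff (s.image ρ) s = ∅ ∨ symmDiff (s.image ρ) s = {4}ᶜ := by
        rcases hfix' with e' | e'
        · left; rw [evenFour_eq_of_compl _ _ hsi hs ((d.f_eq _ _).1 e'), symmDiff_self]; rfl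
        · right
          rw [← d.z_eq, d.f_mul] at e'
          rw [evenFour_eq_of_compl _ _ hsi (evenFour_symmDiff _ _ (by decide) hs)
            ((d.f_eq _ _).1 e'), symmDiff_symmDiff_cancel_right]
      rw [hφ1, e]
      rcases perm_three_fix_mod ρ hsρ h4 hρ2 s hs hst with rfl | rfl
      exacts [Or.inl d.f_empty, Or.inr d.z_eq]
  -- two classes
  have hp01 : d.f {0, 1} ∈ MG := hpair 0 1 (by decide) (by decide) (by decide)
  have hnc : ¬ IsConj (φ ⟨d.f {0, 1}, hp01⟩)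
      (φ ⟨x, hxy'.1⟩) := by
    intro hcj
    obtain ⟨cb, hcb⟩ := isConj_iff.1 hcj
    obtain ⟨c, rfl⟩ := hφs cb
    rw [← map_inv, ← map_mul, ← map_mul] at hcb
    have h := hφeq _ _ hcb
    simp only [Subgroup.coe_mul, Subgroup.coe_inv] at h
    apply hxA
    have hzA : d.z ∈ d.A := d.f_mem _
    have hx' : (c : G) * d.f {0, 1} * (c : G)⁻¹ ∈ d.A := by
      refine d.strongly_closed h3 (d.f_mem _) ?_
      rcases h with e | e <;> rw [e]
      exacts [d.hTN hV.hxT, mul_mem (le_normalizer hzA) (d.hTN hV.hxT)]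
    rcases h with e | e <;> rw [e] at hx'
    · exact hx'
    · have := mul_mem hzA hx'; rwa [← mul_assoc, hzz, one_mul] at this
  have hord : ∀ u : ↥MG, (u : G) * u = 1 → (u : G) ≠ 1 → (u : G) ≠ d.z → orderOf (φ u) = 2 :=
    fun u hu h1 h2 => Invol.invol_of_mul_self
      (by rw [← map_mul, hφ1]; exact Or.inl hu) fun e => ((hφ1 u).1 e).elim h1 h2
  have htop := normalizer_sup_oddCore_eq_top W hWc
    (fun a ha => by rw [pow_two]; exact hWexp a ha) hW8 hfpf
    (hord ⟨d.f {0, 1}, hp01⟩ (d.hexp _ (d.f_mem _))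
      (fun e => by
        have := (d.f_eq_one).1 e
        revert this; decide)
      (fun e => by
        have := (d.f_eq _ _).1 e
        revert this; decide))
    (hord ⟨x, hxy'.1⟩ hV.hxx (fun e => hxA (show x ∈ d.A by rw [show x = 1 from e]; exact one_mem _))
      (fun e => hxA (show x ∈ d.A by rw [show x = d.z from e]; exact d.f_mem _))) hnc
  -- pull back to `MG`
  haveI : (Cfsg.oddCore (↥MG ⧸ (zpowers d.z).subgroupOf MG)).Normal :=
    Solvable.pPrimeCore_normal 2 _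
  set H := (Cfsg.oddCore (↥MG ⧸ (zpowers d.z).subgroupOf MG)).comap φ with hH
  haveI : H.Normal := Normal.comap inferInstance φ
  have hcoreM : ∀ u : ↥MG, u ∈ Cfsg.oddCore ↥MG → (u : G) ∈ Cfsg.centralizerPPrimeCore 2 d.z := by
    intro u hu
    have hn : X ≤ normalizer ((Cfsg.oddCore ↥MG).map MG.subtype : Subgroup G) :=
      le_trans (fun c hc => Invol.mem_normalizer_iff_of_finite (hconj c hc))
        (Comp.normalizer_le_normalizer_pPrimeCore MG)
    exact le_core ((map_subtype_le _).trans hMGX) hn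
      (by rw [card_map_of_injective MG.subtype_injective]; exact Invol.odd_card_oddCore ↥MG)
      (mem_map_of_mem MG.subtype hu)
  have hMdec : ∀ u : ↥MG, ∃ n : G, n ∈ X ∧ n ∈ normalizer (d.A0 : Set G) ∧
      ∃ o ∈ Cfsg.centralizerPPrimeCore 2 d.z, (u : G) = n * o := by
    intro u
    obtain ⟨nb, hnb, ob, hob, e⟩ := mem_sup_of_normal_right.1 (htop ▸ mem_top (φ u))
    obtain ⟨n, rfl⟩ := hφs nb
    have hv : n⁻¹ * u ∈ H := by
      rw [hH, mem_comap, map_mul, map_inv, ← e, inv_mul_cancel_left]; exact hob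
    have hZH : (zpowers d.z).subgroupOf MG ≤ H := fun w hw => by
      rw [hH, mem_comap, show φ w = 1 from (QuotientGroup.eq_one_iff w).2 hw]; exact one_mem _
    obtain ⟨SZ, hSZ⟩ := odd_index_toSylow (P := ((zpowers d.z).subgroupOf MG).subgroupOf H)
      (((IsPGroup.of_card (n := 1) (by
        rw [Nat.card_zpowers, d.orderOf_f (d.single_ne_one 4), pow_one])).comap_subtype).comap_subtype)
      (by
        have h1 : ((zpowers d.z).subgroupOf MG).relIndex H =
            Nat.card (Cfsg.oddCore (↥MG ⧸ (zpowers d.z).subgroupOf MG)) := by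
          rw [← relIndex_bot_left,
            ← map_comap_eq_self_of_surjective hφs (Cfsg.oddCore (↥MG ⧸ (zpowers d.z).subgroupOf MG)),
            ← relIndex_comap, MonoidHom.comap_bot, ← hH, QuotientGroup.ker_mk']
        show Odd (((zpowers d.z).subgroupOf MG).relIndex H)
        rw [h1]
        exact Invol.odd_card_oddCore _)
    obtain ⟨w, hw, o, ho, e'⟩ := exists_eq_mul_oddCore SZ (fun v _ => mem_centralizer_iff.2
      fun w hw => Subtype.ext (Subtype.ext (by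
        rw [hSZ] at hw
        have hw' : (((w : H) : ↥MG) : G) ∈ zpowers d.z := hw
        show ((w : H) : G) * ((v : ↥MG) : G) = ((v : ↥MG) : G) * ((w : H) : G)
        rcases (hmemZ _).1 hw' with e | e <;> rw [e]
        · rw [one_mul, mul_one]
        · exact (mem_centralizer_singleton_iff.1 (hMGX (v : ↥MG).2)).symm))) ⟨_, hv⟩
    rw [hSZ] at hw
    have hw' : (((w : H) : ↥MG) : G) ∈ zpowers d.z := hw
    refine ⟨(n : G) * ((w : ↥MG) : G), mul_mem (hMGX n.2) (hMGX (w : ↥MG).2),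
      mul_mem (hnormA0 n hnb).2 ?_, ((o : ↥MG) : G),
      hcoreM _ (Solvable.map_pPrimeCore_le 2 H (mem_map_of_mem H.subtype ho)), ?_⟩
    · rcases (hmemZ _).1 hw' with e | e <;> rw [e]
      exacts [one_mem _, le_normalizer d.z_mem_A0]
    · have := congrArg (fun q : H => ((q : ↥MG) : G)) e'
      simp only [Subgroup.coe_mul, Subgroup.coe_inv] at this
      rw [mul_assoc, ← this, mul_inv_cancel_left]
  have hwA0 : d.f {0} ∈ normalizer (d.A0 : Set G) :=
    Invol.mem_normalizer_iff_of_finite fun a ha => by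
      rwa [d.hcomm _ (d.f_mem _) a (d.A0_le ha), mul_inv_cancel_right]
  have hXdec : ∀ u ∈ X, ∃ n : G, n ∈ X ∧ n ∈ normalizer (d.A0 : Set G) ∧
      ∃ o ∈ Cfsg.centralizerPPrimeCore 2 d.z, u = n * o := by
    intro u hu
    by_cases huM' : u ∈ MG
    · exact hMdec ⟨u, huM'⟩
    have hwX : d.f {0} ∈ X := hAX (d.f_mem _)
    obtain ⟨n, hnX, hnA, o, ho, e⟩ := hMdec ⟨u * d.f {0}, (hparity u hu _ hwX).2
      (iff_of_false huM' (hsingle 0 (by decide)))⟩
    refine ⟨n * d.f {0}, mul_mem hnX hwX, mul_mem hnA hwA0,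
      (d.f {0})⁻¹ * o * (d.f {0})⁻¹⁻¹, core_conj_self (inv_mem hwX) ho, ?_⟩
    calc u = (u * d.f {0}) * (d.f {0})⁻¹ := by group
      _ = n * o * (d.f {0})⁻¹ := by rw [show u * d.f {0} = n * o from e]
      _ = _ := by
        rw [inv_inv, inv_eq_of_mul_eq_one_right (d.hexp _ (d.f_mem {0}))]
        rw [← mul_assoc (n * d.f {0}) (d.f {0} * o), ← mul_assoc (n * d.f {0}) (d.f {0}) o,
          mul_assoc n (d.f {0}) (d.f {0}), d.hexp _ (d.f_mem {0}), mul_one]
  have hE : d.E0 ≤ Cfsg.centralizerPPrimeCore 2 d.z := by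
    refine le_core_of_normalized ((map_subtype_le _).trans d.C0_le_X) ?_ fun u hu => ?_
    · rw [E0, card_map_of_injective (Subgroup.subtype_injective _)]
      exact Invol.odd_card_oddCore _
    · obtain ⟨n, hnX, hnA, o, ho, e⟩ := hXdec u hu
      refine ⟨n, hnX, Comp.normalizer_le_normalizer_pPrimeCore _ ?_, o, ho, e⟩
      refine Invol.mem_normalizer_iff_of_finite fun c hc => mem_centralizer_iff.2 fun b hb => ?_
      have h := mem_centralizer_iff.1 hc _ ((mem_normalizer_iff''.1 hnA b).1 hb)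
      calc b * (n * c * n⁻¹) = n * (n⁻¹ * b * n * c) * n⁻¹ := by group
        _ = n * (c * (n⁻¹ * b * n)) * n⁻¹ := by rw [h]
        _ = n * c * n⁻¹ * b := by group
  obtain ⟨n, hnX, hnA, o, ho, e⟩ := hXdec g hg
  obtain ⟨c, hc, hm⟩ := d.exists_fix_normalizing hnA
  obtain ⟨a, ha, k, hk, hck⟩ := d.C0_split (inv_mem hc)
  refine ⟨a * (c * n), mul_mem (le_normalizer ha) hm, (c * n)⁻¹ * k * (c * n)⁻¹⁻¹ * o,
    mul_mem (core_conj_self (inv_mem (mul_mem (d.C0_le_X hc) hnX)) (hE hk)) ho, ?_⟩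
  calc g = c⁻¹ * (c * n) * o := by rw [e]; group
    _ = a * k * (c * n) * o := by rw [hck]
    _ = _ := by group

end Data

end CfsgLib.SylAltEight
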