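import Mathlib.GroupTheory.SpecificGroups.Alternating
import Mathlib.GroupTheory.Sylow
import Mathlib.Tactic

/-!
# The centre of a Sylow 2-subgroup of the alternating group of degree eight
-/

set_option autoImplicit false

namespace CfsgLib.SylAltEight

open Subgroup Equiv

/-- A permutation of eight points from its list of values. -/
def swapsOf (l : List (Fin 8 × Fin 8)) : Perm (Fin 8) :=
  l.foldr (fun p q => Equiv.swap p.1 p.2 * q) 1

def baseA : Perm (Fin 8) := swapsOf [(0, 1), (2, 3)]
def baseB : Perm (Fin 8) := swapsOf [(2, 3), (4, 5)]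
def baseC : Perm (Fin 8) := swapsOf [(4, 5), (6, 7)]
def blockA : Perm (Fin 8) := swapsOf [(0, 2), (1, 3), (4, 6), (5, 7)]
def blockB : Perm (Fin 8) := swapsOf [(0, 4), (1, 5), (2, 6), (3, 7)]
def omegaEight : Perm (Fin 8) := swapsOf [(0, 1), (2, 3), (4, 5), (6, 7)]

theorem cert_mem : ∀ g ∈ [baseA, baseB, baseC, blockA, blockB],
    g ∈ alternatingGroup (Fin 8) ∧ g * g = 1 := by
  simp only [List.mem_cons, List.not_mem_nil, or_false, forall_eq_or_imp, forall_eq,
    Equiv.Perm.mem_alternatingGroup]
  decide

/-- Permutations commuting with the five generators. -/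
theorem eq_one_or_omega {σ : Perm (Fin 8)}
    (h : ∀ g ∈ [baseA, baseB, baseC, blockA, blockB], σ * g = g * σ) :
    σ = 1 ∨ σ = omegaEight := by
  have hA : ∀ x, σ (baseA x) = baseA (σ x) := fun x => DFunLike.congr_fun (h _ (by simp)) x
  have hP : ∀ x, σ (blockA x) = blockA (σ x) := fun x => DFunLike.congr_fun (h _ (by simp)) x
  have hQ : ∀ x, σ (blockB x) = blockB (σ x) := fun x => DFunLike.congr_fun (h _ (by simp)) x
  have hB : ∀ x, σ (baseB x) = baseB (σ x) := fun x => DFunLike.congr_fun (h _ (by simp)) x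
  have hC : ∀ x, σ (baseC x) = baseC (σ x) := fun x => DFunLike.congr_fun (h _ (by simp)) x
  have key : ∀ k : Fin 8, σ 0 = k →
      σ 1 = baseA k ∧ σ 2 = blockA k ∧ σ 4 = blockB k := fun k hk =>
    ⟨by rw [← hk, ← hA]; rfl, by rw [← hk, ← hP]; rfl, by rw [← hk, ← hQ]; rfl⟩
  have h3 : σ 3 = blockA (σ 1) := by rw [← hP]; rfl
  have h5 : σ 5 = blockB (σ 1) := by rw [← hQ]; rfl
  have h6 : σ 6 = blockB (σ 2) := by rw [← hQ]; rfl
  have h7 : σ 7 = blockB (σ 3) := by rw [← hQ]; rfl
  have hB0 := hB 0
  have hC0 := hC 0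
  obtain ⟨h1, h2, h4⟩ := key _ rfl
  generalize hk : σ 0 = k at *
  have hb : σ (baseB 0) = σ 0 := rfl
  have hc : σ (baseC 0) = σ 0 := rfl
  rw [hb, hk] at hB0
  rw [hc, hk] at hC0
  have g3 := h3.trans (congrArg blockA h1)
  have g5 := h5.trans (congrArg blockB h1)
  have g6 := h6.trans (congrArg blockB h2)
  have g7 := h7.trans (congrArg blockB g3)
  fin_cases k
  all_goals first
    | exact absurd hB0 (by decide)
    | exact absurd hC0 (by decide)
    | (refine Or.inl (Equiv.ext fun x => ?_)
       fin_cases x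
       · exact hk.trans (by decide)
       · exact h1.trans (by decide)
       · exact h2.trans (by decide)
       · exact g3.trans (by decide)
       · exact h4.trans (by decide)
       · exact g5.trans (by decide)
       · exact g6.trans (by decide)
       · exact g7.trans (by decide))
    | (refine Or.inr (Equiv.ext fun x => ?_)
       fin_cases x
       · exact hk.trans (by decide)
       · exact h1.trans (by decide)
       · exact h2.trans (by decide)
       · exact g3.trans (by decide)
       · exact h4.trans (by decide)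
       · exact g5.trans (by decide)
       · exact g6.trans (by decide)
       · exact g7.trans (by decide))

/-- The generated 2-group. -/
def certBase : Subgroup (Perm (Fin 8)) := zpowers baseA ⊔ zpowers baseB ⊔ zpowers baseC

theorem isPGroup_zpowers_of_sq {G : Type*} [Group G] {g : G} (h : g * g = 1) :
    IsPGroup 2 (zpowers g) := by
  rintro ⟨x, n, rfl⟩
  refine ⟨1, Subtype.ext ?_⟩
  show (g ^ n) ^ 2 ^ 1 = 1
  rw [pow_one, ← zpow_natCast, ← zpow_mul, mul_comm, zpow_mul, zpow_natCast, sq, h, one_zpow]

theorem mem_normalizer_of_conj_gens {G : Type*} [Group G] [Finite G] {H : Subgroup G} {g : G}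
    {s : Set G} (hs : H = closure s) (h : ∀ x ∈ s, g * x * g⁻¹ ∈ H) :
    g ∈ normalizer (H : Set G) := by
  have hle : H.map (MulAut.conj g).toMonoidHom ≤ H := by
    conv_lhs => rw [hs]
    rw [MonoidHom.map_closure, closure_le]
    rintro _ ⟨x, hx, rfl⟩
    exact h x hx
  rw [mem_normalizer_iff_map_conj_eq]
  exact eq_of_le_of_card_ge hle (by rw [card_map_of_injective (MulEquiv.injective _)])

/-- A Sylow 2-subgroup of the alternating group of degree 8 has centre of order at most 2. -/
theorem card_center_sylow_le (P : Sylow 2 ↥(alternatingGroup (Fin 8))) :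
    Nat.card (center ↥(P : Subgroup ↥(alternatingGroup (Fin 8)))) ≤ 2 := by
  haveI : Fact (Nat.Prime 2) := ⟨Nat.prime_two⟩
  have hm := cert_mem
  simp only [List.mem_cons, List.not_mem_nil, or_false, forall_eq_or_imp, forall_eq] at hm
  obtain ⟨⟨-, a2⟩, ⟨-, b2⟩, ⟨-, c2⟩, ⟨-, p2⟩, ⟨-, q2⟩⟩ := hm
  have hnorm : ∀ g x : Perm (Fin 8), g * x = x * g → g ∈ normalizer (zpowers x : Set _) := fun g x e =>
    mem_normalizer_of_conj_gens (zpowers_eq_closure x) fun y hy => by
      rw [Set.mem_singleton_iff.1 hy, e, mul_inv_cancel_right]; exact mem_zpowers x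
  have hAB : IsPGroup 2 ↥(zpowers baseA ⊔ zpowers baseB) :=
    (isPGroup_zpowers_of_sq a2).to_sup_of_normal_right' (isPGroup_zpowers_of_sq b2)
      (zpowers_le.2 (hnorm _ _ (by decide)))
  have hABC : IsPGroup 2 certBase :=
    hAB.to_sup_of_normal_right' (isPGroup_zpowers_of_sq c2)
      (sup_le (zpowers_le.2 (hnorm _ _ (by decide))) (zpowers_le.2 (hnorm _ _ (by decide))))
  have hcl : certBase = closure {baseA, baseB, baseC} := by
    refine le_antisymm (sup_le (sup_le ?_ ?_) ?_) ((closure_le _).2 ?_)
    iterate 3 exact zpowers_le.2 (subset_closure (by simp))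
    rintro x (rfl | rfl | rfl)
    · exact le_sup_left (b := zpowers baseC) (le_sup_left (b := zpowers baseB) (mem_zpowers _))
    · exact le_sup_left (b := zpowers baseC) (le_sup_right (a := zpowers baseA) (mem_zpowers _))
    · exact le_sup_right (a := zpowers baseA ⊔ zpowers baseB) (mem_zpowers _)
  have hmA : baseA ∈ certBase := le_sup_left (b := zpowers baseC)
    (le_sup_left (b := zpowers baseB) (mem_zpowers _))
  have hmB : baseB ∈ certBase := le_sup_left (b := zpowers baseC)
    (le_sup_right (a := zpowers baseA) (mem_zpowers _))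
  have hmC : baseC ∈ certBase := le_sup_right (a := zpowers baseA ⊔ zpowers baseB) (mem_zpowers _)
  have hPQ : IsPGroup 2 ↥(zpowers blockA ⊔ zpowers blockB) :=
    (isPGroup_zpowers_of_sq p2).to_sup_of_normal_right' (isPGroup_zpowers_of_sq q2)
      (zpowers_le.2 (hnorm _ _ (by decide)))
  have hQ : IsPGroup 2 ↥(zpowers blockA ⊔ zpowers blockB ⊔ certBase) := by
    refine hPQ.to_sup_of_normal_right' hABC (sup_le ?_ ?_)
    all_goals refine zpowers_le.2 (mem_normalizer_of_conj_gens hcl ?_)
    all_goals rintro x (rfl | rfl | rfl)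
    · rw [show blockA * baseA * blockA⁻¹ = baseA from by decide]; exact hmA
    · rw [show blockA * baseB * blockA⁻¹ = baseA * baseB * baseC from by decide]
      exact mul_mem (mul_mem hmA hmB) hmC
    · rw [show blockA * baseC * blockA⁻¹ = baseC from by decide]; exact hmC
    · rw [show blockB * baseA * blockB⁻¹ = baseC from by decide]; exact hmC
    · rw [show blockB * baseB * blockB⁻¹ = baseA * baseB * baseC from by decide]
      exact mul_mem (mul_mem hmA hmB) hmC
    · rw [show blockB * baseC * blockB⁻¹ = baseA from by decide]; exact hmA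
  set Q := zpowers blockA ⊔ zpowers blockB ⊔ certBase
  obtain ⟨P', hP'⟩ := (hQ.comap_subtype (K := alternatingGroup (Fin 8))).exists_le_sylow
  have hgen : ∀ g ∈ [baseA, baseB, baseC, blockA, blockB], g ∈ Q := by
    simp only [List.mem_cons, List.not_mem_nil, or_false, forall_eq_or_imp, forall_eq]
    exact ⟨mem_sup_right hmA, mem_sup_right hmB, mem_sup_right hmC,
      mem_sup_left (mem_sup_left (mem_zpowers _)), mem_sup_left (mem_sup_right (mem_zpowers _))⟩
  rw [Nat.card_congr (centerCongr (P.equiv P')).toEquiv]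
  refine le_trans (Nat.card_le_card_of_injective
    (β := ({1, omegaEight} : Finset (Perm (Fin 8))))
    (fun z => ⟨((z : ↥(P' : Subgroup ↥(alternatingGroup (Fin 8)))) : Perm (Fin 8)), ?_⟩)
    fun x y e => Subtype.ext (Subtype.ext (Subtype.ext (by simpa using e)))) ?_
  · have h := eq_one_or_omega (σ := ((z : ↥(P' : Subgroup ↥(alternatingGroup (Fin 8)))) : Perm (Fin 8)))
      fun g hg => by
        have hgP : (⟨g, (cert_mem g hg).1⟩ : alternatingGroup (Fin 8)) ∈
            (P' : Subgroup ↥(alternatingGroup (Fin 8))) := hP' (hgen g hg)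
        exact (congrArg (fun q : ↥(P' : Subgroup ↥(alternatingGroup (Fin 8))) =>
          ((q : ↥(alternatingGroup (Fin 8))) : Perm (Fin 8)))
          (mem_center_iff.1 z.2 ⟨_, hgP⟩)).symm
    simpa using h
  · rw [Nat.card_eq_finsetCard]
    exact Finset.card_le_two

end CfsgLib.SylAltEight
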