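import Cfsg.Agent.Lib.FT.OddOrder
import Cfsg.Agent.Lib.Comp.SFT.Main
import Cfsg.Agent.Lib.Comp.FunctorTrivial
import Cfsg.Agent.Lib.Invol.Strong
import Cfsg.Agent.Lib.Invol.FusionBasics
import Cfsg.Agent.Lib.Invol.BrauerSuzuki
import Cfsg.Agent.Lib.Transfer.HallComplement

/-!
# Controlling all involution centralizers

A subgroup containing a Sylow 2-subgroup, its normalizer and the centralizers of its involutions is
the whole group when there are two classes of involutions; the cores of the centralizers of a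
balanced elementary abelian group generate a subgroup of odd order.
-/

set_option autoImplicit false
set_option linter.style.haveILetI false

namespace CfsgLib.SylAltEight

open Subgroup

universe u

variable {G : Type u} [Group G] [Finite G]

theorem not_two_dvd_iff {n : ℕ} : ¬ 2 ∣ n ↔ Odd n := by
  rw [← even_iff_two_dvd, Nat.not_even_iff_odd]

theorem odd_orderOf_of_mem {O : Subgroup G} (hO : Odd (Nat.card O)) {x : G} (hx : x ∈ O) :
    Odd (orderOf x) := hO.of_dvd_nat (O.orderOf_dvd_natCard hx)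

theorem eq_one_of_pGroup_odd {P O : Subgroup G} (hP : IsPGroup 2 P) (hO : Odd (Nat.card O)) {x : G}
    (hxP : x ∈ P) (hxO : x ∈ O) : x = 1 := by
  obtain ⟨k, hk⟩ := hP ⟨x, hxP⟩
  have hk' : x ^ 2 ^ k = 1 := by simpa using congrArg Subtype.val hk
  exact orderOf_eq_one_iff.1 (Nat.eq_one_of_dvd_coprimes
    (Nat.Coprime.pow_right k (Nat.coprime_two_right.2 (odd_orderOf_of_mem hO hxO))) dvd_rfl
    (orderOf_dvd_of_pow_eq_one hk'))

/-- Two involutions differing by an element of a subgroup of odd order are conjugate under it. -/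
theorem exists_conj_of_coset {O : Subgroup G} (hO : Odd (Nat.card O)) {x y : G}
    (hx : orderOf x = 2) (hy : orderOf y = 2) (h : x * y ∈ O) :
    ∃ d ∈ O, d * x * d⁻¹ = y := by
  obtain ⟨d, hd, h'⟩ := Invol.exists_conj_of_odd hx hy (odd_orderOf_of_mem hO h)
  exact ⟨d, zpowers_le.2 h hd, h'⟩

theorem odd_core (a : G) : Odd (Nat.card (Cfsg.centralizerPPrimeCore 2 a)) :=
  Nat.coprime_two_right.1 (Comp.coprime_card_centralizerPPrimeCore a)

theorem le_core {a : G} {K : Subgroup G} (hK : K ≤ centralizer ({a} : Set G))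
    (hn : centralizer ({a} : Set G) ≤ normalizer (K : Set G)) (ho : Odd (Nat.card K)) :
    K ≤ Cfsg.centralizerPPrimeCore 2 a :=
  Comp.le_centralizerPPrimeCore hK hn (Nat.coprime_two_right.2 ho)

theorem core_le (a : G) : Cfsg.centralizerPPrimeCore 2 a ≤ centralizer ({a} : Set G) :=
  Comp.centralizerPPrimeCore_le a

theorem core_conj {a g x : G} (hx : x ∈ Cfsg.centralizerPPrimeCore 2 a) :
    g * x * g⁻¹ ∈ Cfsg.centralizerPPrimeCore 2 (g * a * g⁻¹) := by
  haveI : Fact (Nat.Prime 2) := ⟨Nat.prime_two⟩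
  rw [Comp.FunctorTriv.centralizerPPrimeCore_conj]
  exact ⟨x, hx, rfl⟩

theorem core_conj_self {a g x : G} (hg : g ∈ centralizer ({a} : Set G))
    (hx : x ∈ Cfsg.centralizerPPrimeCore 2 a) : g * x * g⁻¹ ∈ Cfsg.centralizerPPrimeCore 2 a := by
  have h := core_conj (g := g) hx
  rwa [show g * a * g⁻¹ = a by
    rw [mem_centralizer_singleton_iff.1 hg, mul_inv_cancel_right]] at h

/-- The balance condition on an elementary abelian subgroup. -/
def Balanced (A : Subgroup G) : Prop :=
  ∀ a ∈ A, a ≠ 1 → ∀ b ∈ A, b ≠ 1 →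
    Cfsg.centralizerPPrimeCore 2 a ⊓ centralizer ({b} : Set G) ≤ Cfsg.centralizerPPrimeCore 2 b

/-- The subgroup generated by the cores of the centralizers of the nontrivial elements. -/
def coreClosure (A : Subgroup G) : Subgroup G :=
  ⨆ a : {a : G // a ∈ A ∧ a ≠ 1}, Cfsg.centralizerPPrimeCore 2 (a : G)

theorem core_le_closure {A : Subgroup G} {a : G} (ha : a ∈ A) (ha1 : a ≠ 1) :
    Cfsg.centralizerPPrimeCore 2 a ≤ coreClosure A :=
  le_iSup (fun a : {a : G // a ∈ A ∧ a ≠ 1} => Cfsg.centralizerPPrimeCore 2 (a : G)) ⟨a, ha, ha1⟩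

theorem odd_coreClosure {A : Subgroup G} (hc : ∀ a ∈ A, ∀ b ∈ A, a * b = b * a)
    (he : ∀ a ∈ A, a ^ 2 = 1) (h8 : 2 ^ 3 ≤ Nat.card A) (hb : Balanced A) :
    Odd (Nat.card (coreClosure A)) := by
  refine not_two_dvd_iff.1 (Comp.SFT.solvable_functor_two A hc he h8
    (fun a => Cfsg.centralizerPPrimeCore 2 a) (fun a _ _ => core_le a)
    (fun a _ _ => not_two_dvd_iff.2 (odd_core a)) (fun a ha _ b hb x hx => ?_)
    (fun a _ _ => FT.odd_order_solvable (odd_core a)) hb).1
  exact core_conj_self (mem_centralizer_singleton_iff.2 (hc b hb a ha)) hx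

theorem normalizer_le_normalizer_coreClosure (A : Subgroup G) :
    normalizer (A : Set G) ≤ normalizer (coreClosure A : Set G) := by
  intro g hg
  refine Invol.mem_normalizer_iff_of_finite fun x hx => ?_
  have h : coreClosure A ≤ (coreClosure A).comap (MulAut.conj g).toMonoidHom :=
    iSup_le fun a y hy => by
      show g * y * g⁻¹ ∈ coreClosure A
      refine core_le_closure ((mem_normalizer_iff.1 hg a).1 a.2.1) (fun e => a.2.2 ?_) (core_conj hy)
      exact conj_eq_one_iff.1 e
  exact h hx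

/-- A subgroup with a Sylow 2-subgroup, its normalizer and the centralizers of its involutions. -/
theorem eq_top_of_centralizers (S : Sylow 2 G) {M : Subgroup G} (hS : (S : Subgroup G) ≤ M)
    (hN : normalizer ((S : Subgroup G) : Set G) ≤ M)
    (hC : ∀ x ∈ (S : Subgroup G), orderOf x = 2 → centralizer ({x} : Set G) ≤ M)
    {u v : G} (hu : orderOf u = 2) (hv : orderOf v = 2) (huv : ¬ IsConj u v) : M = ⊤ := by
  by_contra hne
  have hcent : ∀ x ∈ M, orderOf x = 2 → centralizer ({x} : Set G) ≤ M := by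
    intro x hx hxo
    have hxo' : orderOf (⟨x, hx⟩ : M) = 2 := by rw [Subgroup.orderOf_mk, hxo]
    obtain ⟨m, hm⟩ := Invol.exists_conj_invol_mem_sylow (S.subtype hS) hxo'
    have hmS : (m : G) * x * (m : G)⁻¹ ∈ (S : Subgroup G) := hm
    intro y hy
    have hy' : (m : G) * y * (m : G)⁻¹ ∈ M :=
      hC _ hmS (by rw [Invol.orderOf_conj_eq, hxo]) (mem_centralizer_singleton_iff.2 (by
        calc (m : G) * y * (m : G)⁻¹ * ((m : G) * x * (m : G)⁻¹)
            = (m : G) * (y * x) * (m : G)⁻¹ := by group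
          _ = (m : G) * (x * y) * (m : G)⁻¹ := by rw [mem_centralizer_singleton_iff.1 hy]
          _ = _ := by group))
    have h3 := mul_mem (mul_mem (inv_mem m.2) hy') m.2
    simpa [mul_assoc] using h3
  refine huv (Invol.se_isConj (H := M) ⟨hne, ?_, fun g hg => ?_⟩ hu hv)
  · obtain ⟨g, hg⟩ := Invol.exists_conj_invol_mem_sylow S hu
    exact Invol.even_card_of_invol_mem (by rw [Invol.orderOf_conj_eq, hu]) (hS hg)
  refine Nat.not_even_iff_odd.1 fun hev => hg ?_
  obtain ⟨i, hi, hio⟩ := Invol.exists_invol_mem hev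
  set M' : Subgroup G := M.map (MulAut.conj g).toMonoidHom
  have hmem' : ∀ y, y ∈ M' → g⁻¹ * y * g ∈ M := by
    rintro _ ⟨m, hm, rfl⟩; simpa [mul_assoc] using hm
  have hof : ∀ y, g⁻¹ * y * g ∈ M → y ∈ M' := fun y hy => ⟨_, hy, by simp [mul_assoc]⟩
  have hcent' : ∀ x ∈ M ⊓ M', orderOf x = 2 → centralizer ({x} : Set G) ≤ M ⊓ M' := by
    intro x hx hxo
    refine le_inf (hcent x hx.1 hxo) fun y hy => hof y (hcent _ (hmem' x hx.2)
      (by rw [Invol.orderOf_conj_inv_eq, hxo]) (mem_centralizer_singleton_iff.2 ?_))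
    calc g⁻¹ * y * g * (g⁻¹ * x * g) = g⁻¹ * (y * x) * g := by group
      _ = g⁻¹ * (x * y) * g := by rw [mem_centralizer_singleton_iff.1 hy]
      _ = _ := by group
  -- a Sylow subgroup through `i`, and its central involution
  obtain ⟨R, hR⟩ := (Invol.isPGroup_zpowers_of_invol hio).exists_le_sylow
  have hiR : i ∈ (R : Subgroup G) := hR (mem_zpowers i)
  haveI : Nontrivial (R : Subgroup G) :=
    ⟨⟨⟨i, hiR⟩, 1, fun e => Invol.invol_ne_one hio (congrArg Subtype.val e)⟩⟩
  haveI := R.2.center_nontrivial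
  obtain ⟨c, hc, hco⟩ := Invol.exists_invol_mem (H := center (R : Subgroup G)) <| by
    obtain ⟨n, hn⟩ := IsPGroup.iff_card.1 (R.2.to_subgroup (center (R : Subgroup G)))
    rw [hn]
    exact Nat.even_pow.2 ⟨even_two, fun h0 => by
      rw [h0, pow_zero] at hn
      exact absurd hn (Finite.one_lt_card.ne')⟩
  have hcc : ∀ r ∈ (R : Subgroup G), r * (c : G) = (c : G) * r := fun r hr => by
    simpa using congrArg Subtype.val (mem_center_iff.1 hc ⟨r, hr⟩)
  have hcX : (c : G) ∈ M ⊓ M' :=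
    hcent' i hi hio (mem_centralizer_singleton_iff.2 (hcc i hiR).symm)
  have hRX : (R : Subgroup G) ≤ M ⊓ M' := fun r hr =>
    hcent' c hcX (by rw [Subgroup.orderOf_coe, hco]) (mem_centralizer_singleton_iff.2 (hcc r hr))
  -- move it into `S` in two ways
  have hR1 : (R : Subgroup G) ≤ M := hRX.trans inf_le_left
  have hR2 : ((g⁻¹ • R : Sylow 2 G) : Subgroup G) ≤ M := fun y hy => by
    have hy' : g * y * g⁻¹ ∈ (R : Subgroup G) := by
      have h := Transfer.sylow_smul_mem_iff.1 hy
      rwa [inv_inv] at h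
    simpa [mul_assoc] using hmem' _ (hRX hy').2
  obtain ⟨m, hm⟩ := MulAction.exists_smul_eq M (R.subtype hR1) ((g⁻¹ • R : Sylow 2 G).subtype hR2)
  rw [Sylow.smul_subtype] at hm
  have e1 : (m : G) • R = g⁻¹ • R := Sylow.subtype_injective hm
  obtain ⟨k, hk⟩ := MulAction.exists_smul_eq M (R.subtype hR1) (S.subtype hS)
  rw [Sylow.smul_subtype] at hk
  have e2 : (k : G) • R = S := Sylow.subtype_injective hk
  have e3 : ((k : G) * (g * (m : G)) * (k : G)⁻¹) • S = S := by
    conv_lhs => rw [← e2]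
    rw [← mul_smul, inv_mul_cancel_right, mul_smul, mul_smul, e1, smul_inv_smul, e2]
  have h4 := hN (Sylow.smul_eq_iff_mem_normalizer.1 e3)
  have h5 := mul_mem (mul_mem (mul_mem (inv_mem k.2) h4) k.2) (inv_mem m.2)
  simpa [mul_assoc] using h5

/-- An element that is central in the normalizer of its Sylow 2-subgroup: a normal 2-complement. -/
theorem exists_eq_mul_oddCore {X : Type u} [Group X] [Finite X] (W : Sylow 2 X)
    (h : normalizer ((W : Subgroup X) : Set X) ≤ centralizer ((W : Subgroup X) : Set X)) (x : X) :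
    ∃ w ∈ (W : Subgroup X), ∃ o ∈ Cfsg.oddCore X, x = w * o := by
  haveI : Fact (Nat.Prime 2) := ⟨Nat.prime_two⟩
  have hcop : (Nat.card (W : Subgroup X)).Coprime (W : Subgroup X).index := W.card_coprime_index
  obtain ⟨K, hKn, hK⟩ :=
    Transfer.exists_normal_complement_of_normalizer_le_centralizer _ hcop h
  have hKo : K ≤ Cfsg.oddCore X := Invol.le_oddCore hKn <| by
    rw [← hK.index_eq_card]
    exact not_two_dvd_iff.1 W.not_dvd_index
  obtain ⟨⟨w, k⟩, hwk, -⟩ := (hK.symm).existsUnique x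
  exact ⟨w, w.2, k, hKo k.2, hwk.symm⟩

/-- Membership in the core, from the quotient by it. -/
theorem mem_core_iff {a x : G} :
    x ∈ Cfsg.centralizerPPrimeCore 2 a ↔
      ∃ h : x ∈ centralizer ({a} : Set G),
        (⟨x, h⟩ : centralizer ({a} : Set G)) ∈ Cfsg.oddCore (centralizer ({a} : Set G)) := by
  constructor
  · rintro ⟨y, hy, rfl⟩; exact ⟨y.2, hy⟩
  · rintro ⟨h, hy⟩; exact ⟨⟨x, h⟩, hy, rfl⟩

/-- An elementary abelian Sylow 2-subgroup of order at least 8 with regular automizer and at least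
two classes of involutions is normal modulo the odd core. -/
theorem normalizer_sup_oddCore_eq_top {X : Type u} [Group X] [Finite X] (W : Sylow 2 X)
    (hc : ∀ a ∈ (W : Subgroup X), ∀ b ∈ (W : Subgroup X), a * b = b * a)
    (he : ∀ a ∈ (W : Subgroup X), a ^ 2 = 1) (h8 : 2 ^ 3 ≤ Nat.card (W : Subgroup X))
    (hN : ∀ n ∈ normalizer ((W : Subgroup X) : Set X),
      n ∈ centralizer ((W : Subgroup X) : Set X) ∨
        ∀ w ∈ (W : Subgroup X), n * w * n⁻¹ = w → w = 1)
    {u v : X} (hu : orderOf u = 2) (hv : orderOf v = 2) (huv : ¬ IsConj u v) :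
    normalizer ((W : Subgroup X) : Set X) ⊔ Cfsg.oddCore X = ⊤ := by
  haveI : Fact (Nat.Prime 2) := ⟨Nat.prime_two⟩
  have hWC : ∀ a ∈ (W : Subgroup X), (W : Subgroup X) ≤ centralizer ({a} : Set X) :=
    fun a ha w hw => mem_centralizer_singleton_iff.2 (hc w hw a ha)
  -- the centralizers of the involutions of `W`
  have hsplit : ∀ a ∈ (W : Subgroup X), a ≠ 1 → ∀ x ∈ centralizer ({a} : Set X),
      ∃ w ∈ (W : Subgroup X), ∃ o ∈ Cfsg.centralizerPPrimeCore 2 a, x = w * o := by
    intro a ha ha1 x hx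
    obtain ⟨w, hw, o, ho, e⟩ := exists_eq_mul_oddCore (W.subtype (hWC a ha)) (fun y hy => by
      rw [mem_centralizer_iff]
      intro z hz
      have hyN : (y : X) ∈ normalizer ((W : Subgroup X) : Set X) := by
        refine Invol.mem_normalizer_iff_of_finite fun t ht => ?_
        have := (mem_normalizer_iff.1 hy ⟨t, hWC a ha ht⟩).1 ht
        exact this
      rcases hN y hyN with h | h
      · exact Subtype.ext (mem_centralizer_iff.1 h (z : X) hz)
      · exact absurd (h a ha (by
          rw [mem_centralizer_singleton_iff.1 y.2, mul_inv_cancel_right])) ha1) ⟨x, hx⟩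
    exact ⟨w, hw, o, mem_core_iff.2 ⟨o.2, ho⟩, congrArg Subtype.val e⟩
  have hbal : Balanced (W : Subgroup X) := by
    intro a ha ha1 b hb hb1 x hx
    obtain ⟨w, hw, o, ho, rfl⟩ := hsplit b hb hb1 x hx.2
    obtain ⟨n, hn⟩ : ∃ n, Odd n ∧ (w * o) ^ n = 1 :=
      ⟨_, odd_orderOf_of_mem (odd_core a) hx.1, pow_orderOf_eq_one _⟩
    -- in the quotient of `C(b)` by its core the image of `w` has odd order
    let C := centralizer ({b} : Set X)
    haveI : (Cfsg.oddCore C).Normal := Solvable.pPrimeCore_normal 2 C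
    let π := QuotientGroup.mk' (Cfsg.oddCore C)
    obtain ⟨hoC, ho'⟩ := mem_core_iff.1 ho
    have e1 : π ⟨w * o, hx.2⟩ = π ⟨w, hWC b hb hw⟩ := by
      rw [show (⟨w * o, hx.2⟩ : C) = ⟨w, hWC b hb hw⟩ * ⟨o, hoC⟩ from rfl, map_mul,
        show π ⟨o, hoC⟩ = 1 from (QuotientGroup.eq_one_iff _).2 ho', mul_one]
    have e2 : π ⟨w, hWC b hb hw⟩ = 1 := by
      refine orderOf_eq_one_iff.1 (Nat.eq_one_of_dvd_coprimes (Nat.coprime_two_right.2 hn.1)
        (orderOf_dvd_of_pow_eq_one ?_) (orderOf_dvd_of_pow_eq_one ?_))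
      · rw [← e1, ← map_pow, show (⟨w * o, hx.2⟩ : C) ^ n = 1 from Subtype.ext hn.2, map_one]
      · rw [← map_pow, show (⟨w, hWC b hb hw⟩ : C) ^ 2 = 1 from Subtype.ext (he w hw), map_one]
    exact mem_core_iff.2 ⟨hx.2, (QuotientGroup.eq_one_iff _).1 (e1.trans e2)⟩
  have hY := odd_coreClosure hc he h8 hbal
  have hNY := normalizer_le_normalizer_coreClosure (W : Subgroup X)
  set M := normalizer ((W : Subgroup X) : Set X) ⊔ coreClosure (W : Subgroup X) with hMdef
  have hM : M = ⊤ := by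
    refine eq_top_of_centralizers W (le_normalizer.trans le_sup_left) le_sup_left
      (fun x hx hxo y hy => ?_) hu hv huv
    obtain ⟨w, hw, o, ho, rfl⟩ := hsplit x hx (Invol.invol_ne_one hxo) y hy
    exact mul_mem (mem_sup_left (le_normalizer hw))
      (mem_sup_right (core_le_closure hx (Invol.invol_ne_one hxo) ho))
  have hYn : (coreClosure (W : Subgroup X)).Normal := by
    rw [← normalizer_eq_top_iff, eq_top_iff, ← hM, hMdef]
    exact sup_le hNY le_normalizer
  rw [eq_top_iff, ← hM, hMdef]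
  exact sup_le_sup_left (Invol.le_oddCore hYn hY) _

end CfsgLib.SylAltEight
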