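import Cfsg.Agent.Lib.SylAltEight.Setting

/-!
# Fusion: the elementary abelian subgroup is unique in its Sylow subgroup and strongly closed
-/

set_option autoImplicit false
set_option maxRecDepth 100000
set_option linter.style.haveILetI false

namespace CfsgLib.SylAltEight

open Subgroup Equiv

/-- The double transposition `(0 1)(2 3)`. -/
def sigA : Perm (Fin 5) := Equiv.swap 0 1 * Equiv.swap 2 3

/-- The double transposition `(0 2)(1 3)`. -/
def sigB : Perm (Fin 5) := Equiv.swap 0 2 * Equiv.swap 1 3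

theorem sig_facts : Perm.sign sigA = 1 ∧ sigA * sigA = 1 ∧ sigA 4 = 4 ∧ sigA ≠ 1 ∧
    Perm.sign sigB = 1 ∧ sigB * sigB = 1 ∧ sigB 4 = 4 ∧ sigB ≠ 1 ∧ sigA * sigB = sigB * sigA ∧
    sigA ≠ sigB := by decide

theorem involution_conj_sigA : ∀ σ : Perm (Fin 5), Perm.sign σ = 1 → σ * σ = 1 → σ ≠ 1 →
    ∃ ρ : Perm (Fin 5), Perm.sign ρ = 1 ∧ ρ * σ * ρ⁻¹ = sigA := by decide

theorem pair_move : ∀ i j : Fin 5, i ≠ j →
    ∃ σ : Perm (Fin 5), Perm.sign σ = 1 ∧ σ i = 0 ∧ σ j = 1 := by decide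

theorem sigA_fixed_comm : ∀ s : Finset (Fin 5), (s.image sigA = s ∨ s.image sigA = sᶜ) →
    ∃ u : Finset (Fin 5), symmDiff (u.image sigA) u = s ∨ symmDiff (u.image sigA) u = sᶜ := by
  decide

theorem four_group_fixed : ∀ s : Finset (Fin 5), s.image sigA = s ∨ s.image sigA = sᶜ →
    s.image sigB = s ∨ s.image sigB = sᶜ → s = ∅ ∨ s = {4}ᶜ ∨ s = {4} ∨ s = Finset.univ := by
  decide

theorem card_fixed_class : ∀ σ : Perm (Fin 5), Perm.sign σ = 1 → σ * σ = 1 → σ ≠ 1 → σ 4 = 4 →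
    (Finset.univ.filter fun s : Finset (Fin 5) =>
      (4 : Fin 5) ∉ s ∧ (s.image σ = s ∨ s.image σ = sᶜ)).card = 4 := by decide

theorem four_perms_cases : ∀ σ : Perm (Fin 5), Perm.sign σ = 1 → σ * σ = 1 → σ 4 = 4 →
    σ = 1 ∨ σ = sigA ∨ σ = sigB ∨ σ = sigA * sigB := by decide

universe u

variable {G : Type u} [Group G] [Finite G] (d : Data G)

namespace Data

theorem f_empty : d.f ∅ = 1 := by
  have h := d.f_mul ∅ ∅
  rw [show symmDiff (∅ : Finset (Fin 5)) ∅ = ∅ from symmDiff_self _] at h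
  exact mul_eq_right.1 h

theorem f_compl (s : Finset (Fin 5)) : d.f sᶜ = d.f s := (d.f_eq _ _).2 (Or.inr rfl)

theorem f_eq_one {s : Finset (Fin 5)} : d.f s = 1 ↔ s = ∅ ∨ s = Finset.univ := by
  rw [← d.f_empty, d.f_eq, Finset.compl_empty]

theorem lift {σ : Perm (Fin 5)} (h : Perm.sign σ = 1) :
    ∃ n : G, ∃ hn : n ∈ normalizer (d.A : Set G), d.π ⟨n, hn⟩ = σ := by
  obtain ⟨n, hn⟩ := d.hsurj σ h
  exact ⟨n, n.2, hn⟩

theorem conj_f {n : G} (hn : n ∈ normalizer (d.A : Set G)) (s : Finset (Fin 5)) :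
    n * d.f s * n⁻¹ = d.f (s.image (d.π ⟨n, hn⟩)) := d.f_conj ⟨n, hn⟩ s

/-- Every element of `A` is trivial, of single type or of pair type. -/
theorem cases_mem {a : G} (ha : a ∈ d.A) : a = 1 ∨ (∃ i, a = d.f {i}) ∨
    ∃ i j, i ≠ j ∧ a = d.f {i, j} := by
  obtain ⟨s, rfl⟩ := d.f_surj a ha
  have key : ∀ t : Finset (Fin 5), t.card ≤ 2 → d.f t = 1 ∨ (∃ i, d.f t = d.f {i}) ∨
      ∃ i j, i ≠ j ∧ d.f t = d.f {i, j} := by
    intro t ht
    obtain h | h | h : t.card = 0 ∨ t.card = 1 ∨ t.card = 2 := by omega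
    · exact Or.inl (by rw [Finset.card_eq_zero.1 h, f_empty])
    · obtain ⟨i, rfl⟩ := Finset.card_eq_one.1 h
      exact Or.inr (Or.inl ⟨i, rfl⟩)
    · obtain ⟨i, j, hij, rfl⟩ := Finset.card_eq_two.1 h
      exact Or.inr (Or.inr ⟨i, j, hij, rfl⟩)
  by_cases h : s.card ≤ 2
  · exact key s h
  · have h' := key sᶜ (by rw [Finset.card_compl, Fintype.card_fin]; omega)
    rwa [d.f_compl] at h'

theorem orderOf_f {s : Finset (Fin 5)} (h : d.f s ≠ 1) : orderOf (d.f s) = 2 :=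
  Invol.invol_of_mul_self (d.hexp _ (d.f_mem s)) h

theorem single_ne_one (i : Fin 5) : d.f {i} ≠ 1 := fun h => by
  rcases d.f_eq_one.1 h with h' | h'
  · exact Finset.singleton_ne_empty i h'
  · have := congrArg Finset.card h'
    rw [Finset.card_singleton, Finset.card_univ, Fintype.card_fin] at this
    omega

theorem mem_A_of_ker {t : G} (ht : t ∈ (d.T : Subgroup G))
    (h : d.π ⟨t, d.hTN ht⟩ = 1) : t ∈ d.A := by
  obtain ⟨a, ha, e, he, h'⟩ := (d.hker _).1 h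
  have h' : t = a * e := h'
  have he1 : e = 1 := by
    have heT : e ∈ (d.T : Subgroup G) := by
      rw [show e = a⁻¹ * t by rw [h']; group]
      exact mul_mem (inv_mem (d.hAT ha)) ht
    obtain ⟨k, hk⟩ := d.T.2 ⟨e, heT⟩
    have hk' : e ^ 2 ^ k = 1 := by simpa using congrArg Subtype.val hk
    exact orderOf_eq_one_iff.1 (Nat.eq_one_of_dvd_coprimes
      (Nat.Coprime.pow_left k (Nat.coprime_two_left.2 d.hDodd))
      (orderOf_dvd_of_pow_eq_one hk') (d.D.orderOf_dvd_natCard he))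
  rw [h', he1, mul_one]; exact ha

theorem π_of_mem {a : G} (ha : a ∈ d.A) : d.π ⟨a, le_normalizer ha⟩ = 1 :=
  (d.hker _).2 ⟨a, ha, 1, one_mem _, (mul_one _).symm⟩

theorem π_mul {m n : G} (hm : m ∈ normalizer (d.A : Set G)) (hn : n ∈ normalizer (d.A : Set G)) :
    d.π ⟨m * n, mul_mem hm hn⟩ = d.π ⟨m, hm⟩ * d.π ⟨n, hn⟩ := map_mul d.π ⟨m, hm⟩ ⟨n, hn⟩

theorem π_inv {m : G} (hm : m ∈ normalizer (d.A : Set G)) :
    d.π ⟨m⁻¹, inv_mem hm⟩ = (d.π ⟨m, hm⟩)⁻¹ := map_inv d.π ⟨m, hm⟩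

theorem commute_f_iff {n : G} (hn : n ∈ normalizer (d.A : Set G)) (s : Finset (Fin 5)) :
    n * d.f s = d.f s * n ↔ s.image (d.π ⟨n, hn⟩) = s ∨ s.image (d.π ⟨n, hn⟩) = sᶜ := by
  rw [← d.f_eq, ← d.conj_f hn s, mul_inv_eq_iff_eq_mul]

/-- An involution of the normalizer outside `A` times the odd part. -/
theorem invol_split {x a e : G} (hx : x ∈ normalizer (d.A : Set G)) (ha : a ∈ d.A) (he : e ∈ d.D)
    (h : (x * (a * e)) * (x * (a * e)) = 1) (hxx : x * x ∈ d.A) :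
    (x * a) * (x * a) = 1 ∧ (x * a) * e * (x * a)⁻¹ = e⁻¹ := by
  have hxa : x * a ∈ normalizer (d.A : Set G) := mul_mem hx (le_normalizer ha)
  have h1 : (x * a) * e * (x * a)⁻¹ ∈ d.D := (mem_normalizer_iff.1 (d.hDnorm hxa) e).1 he
  have h2 : (x * a) * (x * a) ∈ d.A := by
    rw [show (x * a) * (x * a) = (x * a * x⁻¹) * (x * x) * a by group]
    exact mul_mem (mul_mem ((mem_normalizer_iff.1 hx a).1 ha) hxx) ha
  have key : ((x * a) * e * (x * a)⁻¹) * ((x * a) * (x * a)) * e = 1 := by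
    rw [← h]; group
  have h3 : (x * a) * (x * a) = 1 := by
    have h4 : (x * a) * (x * a) ∈ d.D := by
      rw [show (x * a) * (x * a) =
        ((x * a) * e * (x * a)⁻¹)⁻¹ * (((x * a) * e * (x * a)⁻¹) * ((x * a) * (x * a)) * e) * e⁻¹ by
          group, key, mul_one]
      exact mul_mem (inv_mem h1) (inv_mem he)
    exact orderOf_eq_one_iff.1 (Nat.eq_one_of_dvd_coprimes (Nat.coprime_two_left.2 d.hDodd)
      (orderOf_dvd_of_pow_eq_one (by rw [pow_two]; exact d.hexp _ h2))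
      (d.D.orderOf_dvd_natCard h4))
  refine ⟨h3, ?_⟩
  rw [h3, mul_one] at key
  exact eq_inv_of_mul_eq_one_left key

/-- An involution of `T` over a given permutation of the standard four-group. -/
theorem exists_invol {σ : Perm (Fin 5)} (hs : Perm.sign σ = 1) (h2 : σ * σ = 1) (h4 : σ 4 = 4)
    {y : G} (hyy : y * y = 1) (hy : y ∈ normalizer (d.A : Set G))
    (hyσ : d.π ⟨y, hy⟩ = σ) :
    ∃ x ∈ (d.T : Subgroup G), ∃ hx : x ∈ normalizer (d.A : Set G),
      x * x = 1 ∧ d.π ⟨x, hx⟩ = σ := by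
  obtain ⟨t, htT, htσ⟩ := d.hTsurj σ hs h2 h4
  have hk : d.π (t⁻¹ * ⟨y, hy⟩) = 1 := by rw [map_mul, map_inv, htσ, hyσ, inv_mul_cancel]
  obtain ⟨a, ha, e, he, h'⟩ := (d.hker _).1 hk
  have hye : y = (t : G) * (a * e) := by
    rw [← h']; simp
  have htt : (t : G) * (t : G) ∈ d.A := d.mem_A_of_ker (mul_mem htT htT) (by
    rw [d.π_mul t.2 t.2]; show d.π t * d.π t = 1; rw [htσ, h2])
  obtain ⟨h1, -⟩ := d.invol_split t.2 ha he (by rw [← hye]; exact hyy) htt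
  refine ⟨(t : G) * a, mul_mem htT (d.hAT ha), mul_mem t.2 (le_normalizer ha), h1, ?_⟩
  rw [d.π_mul t.2 (le_normalizer ha), d.π_of_mem ha, mul_one]
  exact htσ

/-- Two involutions of the normalizer over `sigA` are conjugate in it. -/
theorem conj_over_sigA {x y : G} (hx : x ∈ normalizer (d.A : Set G))
    (hy : y ∈ normalizer (d.A : Set G)) (hxx : x * x = 1) (hyy : y * y = 1)
    (h1 : d.π ⟨x, hx⟩ = sigA) (h2 : d.π ⟨y, hy⟩ = sigA) :
    ∃ n ∈ normalizer (d.A : Set G), n * x * n⁻¹ = y := by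
  have hk : d.π ⟨x⁻¹ * y, mul_mem (inv_mem hx) hy⟩ = 1 := by
    rw [d.π_mul (inv_mem hx) hy, d.π_inv hx, h1, h2, inv_mul_cancel]
  obtain ⟨a, ha, e, he, h'⟩ := (d.hker _).1 hk
  have h' : x⁻¹ * y = a * e := h'
  have hye : y = x * (a * e) := by rw [← h']; group
  obtain ⟨hsq, hinv⟩ := d.invol_split hx ha he (by rw [← hye]; exact hyy)
    (by rw [hxx]; exact one_mem _)
  -- the odd part
  obtain ⟨c, hc, hce⟩ : ∃ c ∈ zpowers e, c * c = e := by
    obtain ⟨m, hm⟩ := (d.hDodd.of_dvd_nat (d.D.orderOf_dvd_natCard he) : Odd (orderOf e))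
    refine ⟨e ^ (m + 1), pow_mem (mem_zpowers e) _, ?_⟩
    rw [← pow_add, show m + 1 + (m + 1) = orderOf e + 1 by omega, pow_succ, pow_orderOf_eq_one,
      one_mul]
  have hcD : c ∈ d.D := zpowers_le.2 he hc
  have hcc : (x * a) * c * (x * a)⁻¹ = c⁻¹ := by
    obtain ⟨k, rfl⟩ := mem_zpowers_iff.1 hc
    rw [← conj_zpow, hinv, inv_zpow]
  -- the part in `A`
  obtain ⟨s, rfl⟩ := d.f_surj a ha
  have hxi : x⁻¹ = x := inv_eq_of_mul_eq_one_right hxx
  have hfix : s.image sigA = s ∨ s.image sigA = sᶜ := by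
    rw [← h1, ← d.commute_f_iff hx]
    calc x * d.f s = (x * d.f s * (x * d.f s)) * ((d.f s)⁻¹ * x⁻¹) := by group
      _ = d.f s * x := by rw [hsq, one_mul, hxi, inv_eq_of_mul_eq_one_right (d.hexp _ ha)]
  obtain ⟨u, hu⟩ := sigA_fixed_comm s hfix
  have hu' : d.f (u.image sigA) * d.f u = d.f s := by
    rw [d.f_mul]; exact (d.f_eq _ _).2 hu
  have hb : d.f u ∈ d.A := d.f_mem u
  have e1 : d.f u * x * (d.f u)⁻¹ = x * d.f s := by
    rw [inv_eq_of_mul_eq_one_right (d.hexp _ hb), ← hu', ← h1, ← d.conj_f hx u, hxi]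
    calc d.f u * x * d.f u = 1 * d.f u * x * d.f u := by rw [one_mul]
      _ = x * (x * d.f u * x * d.f u) := by rw [← hxx]; group
  refine ⟨c⁻¹ * d.f u, mul_mem (inv_mem (d.hDN hcD)) (le_normalizer hb), ?_⟩
  calc c⁻¹ * d.f u * x * (c⁻¹ * d.f u)⁻¹ = c⁻¹ * (d.f u * x * (d.f u)⁻¹) * c := by group
    _ = c⁻¹ * ((x * d.f s) * c * (x * d.f s)⁻¹) * (x * d.f s) := by rw [e1]; group
    _ = c⁻¹ * c⁻¹ * (x * d.f s) := by rw [hcc]
    _ = e⁻¹ * (x * d.f s) := by rw [← mul_inv_rev, hce]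
    _ = y := by rw [hye, ← hinv]; group

/-- An involution outside `A` moves to one over `sigA`. -/
theorem to_sigA {y : G} (hy : y ∈ normalizer (d.A : Set G)) (hyy : y * y = 1)
    (hyA : y ∉ d.A) :
    ∃ m : G, ∃ _ : m ∈ normalizer (d.A : Set G),
      ∃ hm' : m * y * m⁻¹ ∈ normalizer (d.A : Set G), d.π ⟨m * y * m⁻¹, hm'⟩ = sigA := by
  have hne : d.π ⟨y, hy⟩ ≠ 1 := fun h => hyA <| by
    obtain ⟨a, ha, e, he, h'⟩ := (d.hker _).1 h
    have h' : y = a * e := h'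
    have he2 : e * e = 1 := by
      rw [← hyy, h', mul_assoc a e, ← mul_assoc e a, ← d.hAD a ha e he, mul_assoc a e,
        ← mul_assoc a a, d.hexp a ha, one_mul]
    have : e = 1 := orderOf_eq_one_iff.1 (Nat.eq_one_of_dvd_coprimes
      (Nat.coprime_two_left.2 d.hDodd) (orderOf_dvd_of_pow_eq_one (by rw [pow_two]; exact he2))
      (d.D.orderOf_dvd_natCard he))
    rw [h', this, mul_one]; exact ha
  obtain ⟨ρ, hρ, hρy⟩ := involution_conj_sigA _ (d.hsign _)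
    ((d.π_mul hy hy).symm.trans
      ((d.hker _).2 ⟨1, one_mem _, 1, one_mem _, by rw [one_mul]; exact hyy⟩)) hne
  obtain ⟨m, hm, hmρ⟩ := d.lift hρ
  refine ⟨m, hm, mul_mem (mul_mem hm hy) (inv_mem hm), ?_⟩
  rw [d.π_mul (mul_mem hm hy) (inv_mem hm), d.π_mul hm hy, d.π_inv hm, hmρ, hρy]

/-- All involutions of the normalizer outside `A` are conjugate. -/
theorem outside_conj {x y : G} (hx : x ∈ normalizer (d.A : Set G))
    (hy : y ∈ normalizer (d.A : Set G)) (hxx : x * x = 1) (hyy : y * y = 1)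
    (hxA : x ∉ d.A) (hyA : y ∉ d.A) :
    ∃ n ∈ normalizer (d.A : Set G), n * x * n⁻¹ = y := by
  obtain ⟨m, hm, hm', e1⟩ := d.to_sigA hx hxx hxA
  obtain ⟨k, hk, hk', e2⟩ := d.to_sigA hy hyy hyA
  have hsq : ∀ g w : G, w * w = 1 → g * w * g⁻¹ * (g * w * g⁻¹) = 1 := fun g w h => by
    rw [show g * w * g⁻¹ * (g * w * g⁻¹) = g * (w * w) * g⁻¹ by group, h, mul_one, mul_inv_cancel]
  obtain ⟨n, hn, e⟩ := d.conj_over_sigA hm' hk' (hsq _ _ hxx) (hsq _ _ hyy) e1 e2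
  refine ⟨k⁻¹ * n * m, mul_mem (mul_mem (inv_mem hk) hn) hm, ?_⟩
  calc k⁻¹ * n * m * x * (k⁻¹ * n * m)⁻¹ = k⁻¹ * (n * (m * x * m⁻¹) * n⁻¹) * k := by group
    _ = y := by rw [e]; group

/-- `A` is the only elementary abelian subgroup of order 16 in `T`. -/
theorem unique_E16 {B : Subgroup G} (hB : B ≤ (d.T : Subgroup G))
    (hBc : ∀ a ∈ B, ∀ b ∈ B, a * b = b * a) (hB16 : Nat.card B = 16) : B = d.A := by
  classical
  by_contra hne
  have hnot : ¬ B ≤ d.A := fun h => hne (eq_of_le_of_card_ge h (by rw [hB16, d.hA16]))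
  obtain ⟨b, hb, hbA⟩ := SetLike.not_le_iff_exists.1 hnot
  let g : ↥B →* Perm (Fin 5) := d.π.comp (Subgroup.inclusion (hB.trans d.hTN))
  have hbπ : g ⟨b, hb⟩ ≠ 1 := fun h => hbA (d.mem_A_of_ker (hB hb) h)
  -- the kernel sits in the fixed points
  have hker : ∀ x ∈ g.ker, (x : G) ∈ d.A := fun x hx => d.mem_A_of_ker (hB x.2) hx
  have hfixb : ∀ y : ↥B, ∀ x ∈ g.ker, ∃ s, (4 : Fin 5) ∉ s ∧ d.f s = x ∧
      (s.image (g y) = s ∨ s.image (g y) = sᶜ) := by
    intro y x hx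
    obtain ⟨s, hs⟩ := d.f_surj _ (hker x hx)
    have key : ∀ t, d.f t = (x : G) → t.image (g y) = t ∨ t.image (g y) = tᶜ := fun t ht => by
      refine (d.commute_f_iff (d.hTN (hB y.2)) t).1 ?_
      rw [ht]
      exact hBc _ y.2 _ x.2
    by_cases h4 : (4 : Fin 5) ∈ s
    · exact ⟨sᶜ, fun h => Finset.mem_compl.1 h h4, by rw [d.f_compl, hs],
        key _ (by rw [d.f_compl, hs])⟩
    · exact ⟨s, h4, hs, key s hs⟩
  have hK4 : Nat.card g.ker ≤ 4 := by
    choose F hF4 hFx hFfix using fun x : g.ker => hfixb ⟨b, hb⟩ x x.2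
    obtain ⟨h4, h2⟩ := d.hTim ⟨b, d.hTN (hB hb)⟩ (hB hb)
    have hc := card_fixed_class (g ⟨b, hb⟩) (d.hsign _) h2 hbπ h4
    rw [← hc, ← Nat.card_eq_finsetCard]
    refine Nat.card_le_card_of_injective (fun x => ⟨F x, ?_⟩) fun x y e => ?_
    · exact Finset.mem_filter.2 ⟨Finset.mem_univ _, hF4 x, hFfix x⟩
    · refine Subtype.ext (Subtype.ext ?_)
      simp only [Subtype.mk.injEq] at e
      rw [← hFx x, ← hFx y, e]
  have himg : Nat.card g.range ≤ 4 := by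
    rw [← card_four_perms, ← Nat.card_eq_finsetCard]
    refine Nat.card_le_card_of_injective (fun x => ⟨x.1, ?_⟩) fun x y e =>
      Subtype.ext (congrArg Subtype.val e :)
    obtain ⟨y, hy⟩ := x.2
    obtain ⟨h4, h2⟩ := d.hTim ⟨y, d.hTN (hB y.2)⟩ (hB y.2)
    rw [← hy]
    exact Finset.mem_filter.2 ⟨Finset.mem_univ _, d.hsign _, h2, h4⟩
  have hcard : 16 = Nat.card g.range * Nat.card g.ker := by
    rw [← Nat.card_congr (QuotientGroup.quotientKerEquivRange g).toEquiv,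
      ← card_eq_card_quotient_mul_card_subgroup, hB16]
  have hr4 : Nat.card g.range = 4 := by nlinarith
  have hk4 : Nat.card g.ker = 4 := by rw [hr4] at hcard; omega
  -- the image is the whole four-group, so the kernel has order at most two
  have hsurj : ∀ σ : Perm (Fin 5), Perm.sign σ = 1 → σ * σ = 1 → σ 4 = 4 → ∃ y, g y = σ := by
    intro σ h1 h2 h3
    let V := Finset.univ.filter fun σ : Perm (Fin 5) => Perm.sign σ = 1 ∧ σ * σ = 1 ∧ σ 4 = 4
    have hsub : (g.range : Set (Perm (Fin 5))).toFinset = V := by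
      refine Finset.eq_of_subset_of_card_le (fun τ hτ => ?_) ?_
      · obtain ⟨y, rfl⟩ := Set.mem_toFinset.1 hτ
        obtain ⟨h4, h2⟩ := d.hTim ⟨y, d.hTN (hB y.2)⟩ (hB y.2)
        exact Finset.mem_filter.2 ⟨Finset.mem_univ _, d.hsign _, h2, h4⟩
      · rw [card_four_perms, Set.toFinset_card, ← Nat.card_eq_fintype_card]
        exact hr4.ge
    have hσ : σ ∈ (g.range : Set (Perm (Fin 5))).toFinset := by
      rw [hsub]; exact Finset.mem_filter.2 ⟨Finset.mem_univ _, h1, h2, h3⟩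
    exact MonoidHom.mem_range.1 (SetLike.mem_coe.1 (Set.mem_toFinset.1 hσ))
  obtain ⟨a1, a2, a3, -, b1, b2, b3, -, -, -⟩ := sig_facts
  obtain ⟨y₁, hy₁⟩ := hsurj sigA a1 a2 a3
  obtain ⟨y₂, hy₂⟩ := hsurj sigB b1 b2 b3
  have h2 : Nat.card g.ker ≤ 2 := by
    have : ∀ x : g.ker, (x : G) = 1 ∨ (x : G) = d.f {4} := by
      intro x
      obtain ⟨s, hs4, hsx, hA'⟩ := hfixb y₁ x x.2
      obtain ⟨t, ht4, htx, hB'⟩ := hfixb y₂ x x.2
      have hts : t = s := by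
        rcases (d.f_eq t s).1 (htx.trans hsx.symm) with h | h
        · exact h
        · exact absurd (h ▸ Finset.mem_compl.2 hs4) ht4
      subst hts
      rw [hy₁] at hA'; rw [hy₂] at hB'
      rw [← hsx]
      rcases four_group_fixed t hA' hB' with rfl | rfl | rfl | rfl
      · exact Or.inl d.f_empty
      · exact Or.inr (d.f_compl _)
      · exact Or.inr rfl
      · exact Or.inl (d.f_eq_one.2 (Or.inr rfl))
    refine le_trans (Nat.card_le_card_of_injective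
      (β := ({1, d.f {4}} : Finset G)) (fun x => ⟨(x : G), by simpa using this x⟩)
      fun x y e => Subtype.ext (Subtype.ext (congrArg Subtype.val e :))) ?_
    rw [Nat.card_eq_finsetCard]
    exact Finset.card_le_two
  omega

/-- The normalizer of `T` normalizes `A`. -/
theorem normalizer_T_le :
    normalizer ((d.T : Subgroup G) : Set G) ≤ normalizer (d.A : Set G) := by
  intro g hg
  rw [mem_normalizer_iff_map_conj_eq]
  refine d.unique_E16 ?_ ?_ ?_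
  · rintro _ ⟨a, ha, rfl⟩
    exact (mem_normalizer_iff.1 hg a).1 (d.hAT ha)
  · rintro _ ⟨a, ha, rfl⟩ _ ⟨b, hb, rfl⟩
    rw [← map_mul, d.hcomm a ha b hb, map_mul]
  · rw [card_map_of_injective (MulEquiv.injective _), d.hA16]

/-- `N` controls fusion in `A`. -/
theorem conj_in_normalizer {a g : G} (ha : a ∈ d.A) (hga : g * a * g⁻¹ ∈ d.A) :
    ∃ n ∈ normalizer (d.A : Set G), n * a * n⁻¹ = g * a * g⁻¹ := by
  haveI : Fact (Nat.Prime 2) := ⟨Nat.prime_two⟩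
  set b := g * a * g⁻¹ with hb
  set C := centralizer ({b} : Set G)
  set A' := d.A.map (MulAut.conj g).toMonoidHom
  have hAC : d.A ≤ C := fun x hx => mem_centralizer_singleton_iff.2 (d.hcomm x hx b hga)
  have hA'C : A' ≤ C := by
    rintro _ ⟨x, hx, rfl⟩
    refine mem_centralizer_singleton_iff.2 ?_
    show (g * x * g⁻¹) * b = b * (g * x * g⁻¹)
    rw [hb, show g * x * g⁻¹ * (g * a * g⁻¹) = g * (x * a) * g⁻¹ by group, d.hcomm x hx a ha]
    group
  have hAp : IsPGroup 2 d.A := d.T.2.to_le d.hAT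
  obtain ⟨R₁, hR₁⟩ := (hAp.comap_subtype (K := C)).exists_le_sylow
  obtain ⟨R₂, hR₂⟩ := ((hAp.map (MulAut.conj g).toMonoidHom).comap_subtype (K := C)).exists_le_sylow
  obtain ⟨c, rfl⟩ := MulAction.exists_smul_eq C R₂ R₁
  obtain ⟨S, hS⟩ := ((c • R₂).2.map C.subtype).exists_le_sylow
  obtain ⟨k, rfl⟩ := MulAction.exists_smul_eq G d.T S
  have hmem : ∀ y ∈ ((k • d.T : Sylow 2 G) : Subgroup G), k⁻¹ * y * k ∈ (d.T : Subgroup G) :=
    fun y hy => by
      have h := Transfer.sylow_smul_mem_iff.1 hy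
      exact h
  have huq : ∀ h : G, (∀ x ∈ d.A, h * x * h⁻¹ ∈ (d.T : Subgroup G)) →
      h ∈ normalizer (d.A : Set G) := by
    intro h hh
    rw [mem_normalizer_iff_map_conj_eq]
    refine d.unique_E16 ?_ ?_ ?_
    · rintro _ ⟨x, hx, rfl⟩; exact hh x hx
    · rintro _ ⟨x, hx, rfl⟩ _ ⟨y, hy, rfl⟩
      rw [← map_mul, d.hcomm x hx y hy, map_mul]
    · rw [card_map_of_injective (MulEquiv.injective _), d.hA16]
  have hk : k⁻¹ ∈ normalizer (d.A : Set G) := huq _ fun x hx => by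
    rw [inv_inv]
    exact hmem x (hS ⟨⟨x, hAC hx⟩, hR₁ hx, rfl⟩)
  have hkc : k⁻¹ * (c : G) * g ∈ normalizer (d.A : Set G) := huq _ fun x hx => by
    have hxC : g * x * g⁻¹ ∈ C := hA'C ⟨x, hx, rfl⟩
    have h1 : c * ⟨g * x * g⁻¹, hxC⟩ * c⁻¹ ∈ (c • R₂ : Sylow 2 C) := by
      rw [Transfer.sylow_smul_mem_iff]
      have h2 : (⟨g * x * g⁻¹, hxC⟩ : C) ∈ R₂ := hR₂ ⟨x, hx, rfl⟩
      simpa [mul_assoc] using h2
    simpa [mul_assoc] using hmem _ (hS ⟨_, h1, rfl⟩)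
  refine ⟨(c : G) * g, ?_, ?_⟩
  · have := mul_mem (inv_mem hk) hkc
    simpa [mul_assoc] using this
  · have hcb : (c : G) * b = b * (c : G) := mem_centralizer_singleton_iff.1 c.2
    calc (c : G) * g * a * ((c : G) * g)⁻¹ = (c : G) * b * (c : G)⁻¹ := by rw [hb]; group
      _ = b := by rw [hcb]; group

/-- The single and the pair type are not fused. -/
theorem not_conj_single_pair {i j k : Fin 5} (hjk : j ≠ k) :
    ¬ IsConj (d.f {i}) (d.f {j, k}) := by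
  intro h
  obtain ⟨g, hg⟩ := isConj_iff.1 h
  obtain ⟨n, hn, e⟩ := d.conj_in_normalizer (d.f_mem {i}) (hg ▸ d.f_mem _)
  rw [hg, d.conj_f hn, Finset.image_singleton] at e
  rcases (d.f_eq _ _).1 e with h' | h'
  · have := congrArg Finset.card h'
    rw [Finset.card_singleton, Finset.card_pair hjk] at this; omega
  · have := congrArg Finset.card h'
    rw [Finset.card_singleton, Finset.card_compl, Finset.card_pair hjk, Fintype.card_fin] at this
    omega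

/-- A conjugate of a single type element in `A` has single type. -/
theorem single_of_conj {i : Fin 5} {b : G} (hb : b ∈ d.A) (h : IsConj (d.f {i}) b) :
    ∃ k, b = d.f {k} := by
  rcases d.cases_mem hb with rfl | h' | ⟨j, k, hjk, rfl⟩
  · obtain ⟨g, hg⟩ := isConj_iff.1 h
    exact absurd (conj_eq_one_iff.1 hg) (d.single_ne_one i)
  · exact h'
  · exact absurd h (d.not_conj_single_pair hjk)

theorem single_conj (i j : Fin 5) : IsConj (d.f {i}) (d.f {j}) := by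
  obtain ⟨σ, hσ, hσi⟩ := perm_move_four i
  obtain ⟨τ, hτ, hτj⟩ := perm_move_four j
  obtain ⟨n, hn, e⟩ := d.lift (σ := τ * σ⁻¹)
    (by rw [map_mul, map_inv, hσ, hτ, inv_one, mul_one])
  refine isConj_iff.2 ⟨n, ?_⟩
  rw [d.conj_f hn, e, Finset.image_singleton, Perm.mul_apply,
    Perm.inv_eq_iff_eq.2 hσi.symm, hτj]

theorem pair_conj {i j : Fin 5} (hij : i ≠ j) : IsConj (d.f {i, j}) (d.f {0, 1}) := by
  obtain ⟨σ, hσ, hi, hj⟩ := pair_move i j hij
  obtain ⟨n, hn, e⟩ := d.lift hσ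
  refine isConj_iff.2 ⟨n, ?_⟩
  rw [d.conj_f hn, e, Finset.image_insert, Finset.image_singleton, hi, hj]

/-- There are at least three classes of involutions. -/
def ThreeClasses (G : Type u) [Group G] : Prop :=
  ∀ u v : G, ∃ x : G, orderOf x = 2 ∧ ¬ IsConj u x ∧ ¬ IsConj v x

theorem exists_outside (h3 : ThreeClasses G) :
    ∃ x ∈ (d.T : Subgroup G), x * x = 1 ∧ x ∉ d.A ∧ ∀ a ∈ d.A, ¬ IsConj a x := by
  haveI : Fact (Nat.Prime 2) := ⟨Nat.prime_two⟩
  obtain ⟨x, hx, h1, h2⟩ := h3 (d.f {4}) (d.f {0, 1})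
  obtain ⟨g, hg⟩ := Invol.exists_conj_invol_mem_sylow d.T hx
  have hcl : ∀ a ∈ d.A, ¬ IsConj a x := by
    intro a ha h
    rcases d.cases_mem ha with rfl | ⟨i, rfl⟩ | ⟨i, j, hij, rfl⟩
    · obtain ⟨k, hk⟩ := isConj_iff.1 h
      simp at hk
      rw [← hk, orderOf_one] at hx
      omega
    · exact h1 ((d.single_conj 4 i).trans h)
    · exact h2 ((d.pair_conj hij).symm.trans h)
  have hgx : IsConj x (g * x * g⁻¹) := isConj_iff.2 ⟨g, rfl⟩
  refine ⟨g * x * g⁻¹, hg, Invol.invol_mul_self (by rw [Invol.orderOf_conj_eq, hx]),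
    fun h => hcl _ h hgx.symm, fun a ha h => hcl a ha (h.trans hgx.symm)⟩

/-- `A` is strongly closed in its normalizer. -/
theorem strongly_closed (h3 : ThreeClasses G) {a g : G} (ha : a ∈ d.A)
    (hg : g * a * g⁻¹ ∈ normalizer (d.A : Set G)) : g * a * g⁻¹ ∈ d.A := by
  obtain ⟨x, hxT, hxx, hxA, hxc⟩ := d.exists_outside h3
  by_contra hne
  have hgg : g * a * g⁻¹ * (g * a * g⁻¹) = 1 := by
    rw [show g * a * g⁻¹ * (g * a * g⁻¹) = g * (a * a) * g⁻¹ by group, d.hexp a ha, mul_one,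
      mul_inv_cancel]
  obtain ⟨n, -, e⟩ := d.outside_conj hg (d.hTN hxT) hgg hxx hne hxA
  exact hxc a ha ((isConj_iff.2 ⟨g, rfl⟩).trans (isConj_iff.2 ⟨n, e⟩))

/-- Commuting involutions of `T` over the two generators of the four-group. -/
theorem exists_complement (h3 : ThreeClasses G) :
    ∃ x ∈ (d.T : Subgroup G), ∃ y ∈ (d.T : Subgroup G), x * x = 1 ∧ y * y = 1 ∧ x * y = y * x ∧
      ∃ (hx : x ∈ normalizer (d.A : Set G)) (hy : y ∈ normalizer (d.A : Set G)),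
        d.π ⟨x, hx⟩ = sigA ∧ d.π ⟨y, hy⟩ = sigB := by
  obtain ⟨a1, a2, a3, -, b1, b2, b3, -, hab, -⟩ := sig_facts
  obtain ⟨u, huT, huu, huA, -⟩ := d.exists_outside h3
  obtain ⟨m, hm, hm', em⟩ := d.to_sigA (d.hTN huT) huu huA
  obtain ⟨x, hxT, hx, hxx, hxσ⟩ := d.exists_invol a1 a2 a3
    (y := m * u * m⁻¹)
    (by rw [show m * u * m⁻¹ * (m * u * m⁻¹) = m * (u * u) * m⁻¹ by group, huu, mul_one,
      mul_inv_cancel]) hm' em
  obtain ⟨t, htT, htσ⟩ := d.hTsurj sigB b1 b2 b3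
  -- correct `t` so that it centralizes `x`
  have hcoset : d.π ⟨t * x * (t : G)⁻¹, mul_mem (mul_mem t.2 hx) (inv_mem t.2)⟩ = sigA := by
    rw [d.π_mul (mul_mem t.2 hx) (inv_mem t.2), d.π_mul t.2 hx, d.π_inv t.2, hxσ]
    show d.π t * sigA * (d.π t)⁻¹ = sigA
    rw [htσ, ← hab, mul_inv_cancel_right]
  have htx : (t : G) * x * (t : G)⁻¹ ∈ (d.T : Subgroup G) := mul_mem (mul_mem htT hxT) (inv_mem htT)
  have hk : d.π ⟨x⁻¹ * ((t : G) * x * (t : G)⁻¹), mul_mem (inv_mem hx)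
      (mul_mem (mul_mem t.2 hx) (inv_mem t.2))⟩ = 1 := by
    rw [d.π_mul (inv_mem hx) (mul_mem (mul_mem t.2 hx) (inv_mem t.2)), d.π_inv hx, hxσ, hcoset,
      inv_mul_cancel]
  have hca := d.mem_A_of_ker (mul_mem (inv_mem hxT) htx) hk
  obtain ⟨s, hs⟩ := d.f_surj _ hca
  have hxi : x⁻¹ = x := inv_eq_of_mul_eq_one_right hxx
  have hsA : d.f s ∈ d.A := d.f_mem s
  have hsfix : s.image sigA = s ∨ s.image sigA = sᶜ := by
    rw [← hxσ, ← d.commute_f_iff hx]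
    have h1 : x * d.f s * (x * d.f s) = 1 := by
      rw [hs]
      rw [show x * (x⁻¹ * ((t : G) * x * (t : G)⁻¹)) * (x * (x⁻¹ * ((t : G) * x * (t : G)⁻¹))) =
        (t : G) * (x * x) * (t : G)⁻¹ by group, hxx, mul_one, mul_inv_cancel]
    calc x * d.f s = (x * d.f s * (x * d.f s)) * ((d.f s)⁻¹ * x⁻¹) := by group
      _ = d.f s * x := by rw [h1, one_mul, hxi, inv_eq_of_mul_eq_one_right (d.hexp _ hsA)]
  obtain ⟨u', hu'⟩ := sigA_fixed_comm s hsfix
  have hu'' : d.f (u'.image sigA) * d.f u' = d.f s := by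
    rw [d.f_mul]; exact (d.f_eq _ _).2 hu'
  have hbA : d.f u' ∈ d.A := d.f_mem u'
  obtain ⟨y₀, hy₀⟩ : ∃ y : G, y = d.f u' * (t : G) := ⟨_, rfl⟩
  have hy₀T : y₀ ∈ (d.T : Subgroup G) := hy₀ ▸ mul_mem (d.hAT hbA) htT
  have hy₀x : y₀ * x * y₀⁻¹ = x := by
    have e1 : (t : G) * x * (t : G)⁻¹ = x * d.f s := by rw [hs]; group
    calc y₀ * x * y₀⁻¹ = d.f u' * ((t : G) * x * (t : G)⁻¹) * (d.f u')⁻¹ := by rw [hy₀]; group
      _ = x * ((x * d.f u' * x⁻¹) * d.f s * d.f u') := by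
          rw [e1, inv_eq_of_mul_eq_one_right (d.hexp _ hbA), hxi]
          rw [show x * (x * d.f u' * x * d.f s * d.f u') = x * x * d.f u' * x * d.f s * d.f u' by
            group, hxx, one_mul]
          group
      _ = x := by
          rw [d.conj_f hx, hxσ, ← hu'']
          rw [show d.f (u'.image sigA) * (d.f (u'.image sigA) * d.f u') * d.f u' =
            d.f (u'.image sigA) * d.f (u'.image sigA) * (d.f u' * d.f u') by group,
            d.hexp _ (d.f_mem _), d.hexp _ hbA, mul_one, mul_one]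
  have hy₀N : y₀ ∈ normalizer (d.A : Set G) := d.hTN hy₀T
  have hy₀π : d.π ⟨y₀, hy₀N⟩ = sigB := by
    have : d.π ⟨d.f u' * (t : G), mul_mem (le_normalizer hbA) t.2⟩ = sigB := by
      rw [d.π_mul (le_normalizer hbA) t.2, d.π_of_mem hbA, one_mul]; exact htσ
    rw [← this]; congr 2
  -- its square is fixed by both
  have hsq : y₀ * y₀ ∈ d.A := d.mem_A_of_ker (mul_mem hy₀T hy₀T) (by
    rw [d.π_mul hy₀N hy₀N, hy₀π, b2])
  obtain ⟨r, hr⟩ := d.f_surj _ hsq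
  have hy₀c : y₀ * x = x * y₀ := mul_inv_eq_iff_eq_mul.1 hy₀x
  have hr1 : r.image sigA = r ∨ r.image sigA = rᶜ := by
    rw [← hxσ, ← d.commute_f_iff hx, hr, ← mul_assoc, ← hy₀c, mul_assoc, ← hy₀c, mul_assoc]
  have hr2 : r.image sigB = r ∨ r.image sigB = rᶜ := by
    rw [← hy₀π, ← d.commute_f_iff hy₀N, hr, mul_assoc]
  have hfinish : ∀ y ∈ (d.T : Subgroup G), ∀ hy : y ∈ normalizer (d.A : Set G),
      y * y = 1 → y * x = x * y → d.π ⟨y, hy⟩ = sigB →
      ∃ x ∈ (d.T : Subgroup G), ∃ y ∈ (d.T : Subgroup G), x * x = 1 ∧ y * y = 1 ∧ x * y = y * x ∧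
      ∃ (hx : x ∈ normalizer (d.A : Set G)) (hy : y ∈ normalizer (d.A : Set G)),
        d.π ⟨x, hx⟩ = sigA ∧ d.π ⟨y, hy⟩ = sigB :=
    fun y hyT hy hyy hyx hyπ =>
      ⟨x, hxT, y, hyT, hxx, hyy, hyx.symm, hx, hy, hxσ, hyπ⟩
  rcases four_group_fixed r hr1 hr2 with rfl | rfl | rfl | rfl
  · exact hfinish y₀ hy₀T hy₀N (by rw [← hr, d.f_empty]) hy₀c hy₀π
  all_goals
    first
      | exact hfinish y₀ hy₀T hy₀N (by rw [← hr, d.f_eq_one.2 (Or.inr rfl)]) hy₀c hy₀π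
      | (have hz : y₀ * y₀ = d.f {4} := hr.symm.trans (by first | rfl | rw [d.f_compl])
         have hb : d.f {0, 1} ∈ d.A := d.f_mem _
         refine hfinish (y₀ * d.f {0, 1}) (mul_mem hy₀T (d.hAT hb))
           (mul_mem hy₀N (le_normalizer hb)) ?_ ?_ ?_
         · have h2 : y₀ * d.f {0, 1} * y₀⁻¹ = d.f {2, 3} := by
             rw [d.conj_f hy₀N, hy₀π]
             exact congrArg d.f (by decide)
           calc y₀ * d.f {0, 1} * (y₀ * d.f {0, 1})
               = (y₀ * d.f {0, 1} * y₀⁻¹) * (y₀ * y₀) * d.f {0, 1} := by group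
             _ = 1 := by
               rw [h2, hz, d.f_mul, d.f_mul, d.f_eq_one]
               decide
         · have h3 : x * d.f {0, 1} = d.f {0, 1} * x := by
             rw [d.commute_f_iff hx, hxσ]; decide
           rw [mul_assoc, ← h3, ← mul_assoc, hy₀c, mul_assoc]
         · rw [d.π_mul hy₀N (le_normalizer hb), hy₀π, d.π_of_mem hb, mul_one])

end Data

end CfsgLib.SylAltEight
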