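import Cfsg.Agent.Lib.SylAltEight.CentPair
import Cfsg.Agent.Lib.SylAltEight.Cert
import Mathlib.Algebra.Group.ConjFinite

/-!
# The elementary abelian subgroup is normal modulo the odd core
-/

set_option autoImplicit false
set_option maxRecDepth 100000
set_option linter.style.haveILetI false

namespace CfsgLib.SylAltEight

open Subgroup Equiv

theorem fixed_single_of_ne_one : ∀ σ : Perm (Fin 5), Perm.sign σ = 1 → σ * σ = 1 → σ 4 = 4 →
    σ ≠ 1 → ∀ i : Fin 5, (({i} : Finset (Fin 5)).image σ = {i} ∨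
      ({i} : Finset (Fin 5)).image σ = ({i} : Finset (Fin 5))ᶜ) → i = 4 := by decide

universe u

variable {G : Type u} [Group G] [Finite G]

/-- Three classes of involutions leave one outside any two. -/
theorem threeClasses_of_card
    (h3 : Nat.card {c : ConjClasses G // ∃ x ∈ c.carrier, orderOf x = 2} = 3) :
    Data.ThreeClasses G := by
  classical
  intro u v
  by_contra hne
  push Not at hne
  have hle : Nat.card {c : ConjClasses G // ∃ x ∈ c.carrier, orderOf x = 2} ≤ 2 := by
    refine le_trans (Nat.card_le_card_of_injective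
      (β := ({ConjClasses.mk u, ConjClasses.mk v} : Finset (ConjClasses G)))
      (fun c => ⟨c.1, ?_⟩) fun c e h => Subtype.ext (congrArg Subtype.val h :)) ?_
    · obtain ⟨x, hx, ho⟩ := c.2
      rw [ConjClasses.mem_carrier_iff_mk_eq] at hx
      rw [← hx, Finset.mem_insert, Finset.mem_singleton, ConjClasses.mk_eq_mk_iff_isConj,
        ConjClasses.mk_eq_mk_iff_isConj]
      by_cases hu : IsConj u x
      · exact Or.inl hu.symm
      · exact Or.inr (hne x ho hu).symm
    · rw [Nat.card_eq_finsetCard]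
      exact Finset.card_le_two
  omega

namespace Data

variable (d : Data G)

theorem hAD' {b : G} (hb : b ∈ d.A) : d.D ≤ centralizer ({b} : Set G) := fun e he =>
  mem_centralizer_singleton_iff.2 (d.hAD b hb e he).symm

theorem D_le_core (h3 : ThreeClasses G) {b : G} (hb : b ∈ d.A) (hb1 : b ≠ 1) :
    d.D ≤ Cfsg.centralizerPPrimeCore 2 b := by
  refine le_core_of_normalized (d.hAD' hb) d.hDodd fun g hg => ?_
  obtain ⟨n, hn, o, ho, e⟩ := d.cent_A h3 hb hb1 hg
  refine ⟨n, ?_, d.hDnorm hn, o, ho, e⟩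
  have := mul_mem hg (inv_mem (core_le b ho))
  rwa [e, mul_inv_cancel_right] at this

theorem balanced (h3 : ThreeClasses G) : Balanced d.A := by
  intro a ha ha1 b hb hb1 x hx
  obtain ⟨n, hn, o, ho, rfl⟩ := d.cent_A h3 hb hb1 hx.2
  have hnC : n ∈ centralizer ({b} : Set G) := by
    have h2 : n * o ∈ centralizer ({b} : Set G) := hx.2
    have := mul_mem h2 (inv_mem (core_le b ho))
    rwa [mul_inv_cancel_right] at this
  let C := centralizer ({b} : Set G)
  haveI : (Cfsg.oddCore C).Normal := Solvable.pPrimeCore_normal 2 C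
  let π := QuotientGroup.mk' (Cfsg.oddCore C)
  obtain ⟨hoC, hoo⟩ := mem_core_iff.1 ho
  have hπx : π ⟨n * o, hx.2⟩ = π ⟨n, hnC⟩ := by
    rw [show (⟨n * o, hx.2⟩ : C) = ⟨n, hnC⟩ * ⟨o, hoC⟩ from rfl, map_mul,
      show π ⟨o, hoC⟩ = 1 from (QuotientGroup.eq_one_iff _).2 hoo, mul_one]
  -- `n` centralizes `A`
  have hcen : ∀ c ∈ d.A, n * c = c * n := by
    intro c hc
    have hcC : c ∈ C := mem_centralizer_singleton_iff.2 (d.hcomm c hc b hb)
    have h1 : (n * o) * (c * (n * o)⁻¹ * c⁻¹) ∈ Cfsg.centralizerPPrimeCore 2 a :=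
      mul_mem hx.1 (core_conj_self (mem_centralizer_singleton_iff.2 (d.hcomm c hc a ha))
        (inv_mem hx.1))
    have h2 : (n * o) * (c * (n * o)⁻¹ * c⁻¹) ∈ C :=
      C.mul_mem hx.2 (C.mul_mem (C.mul_mem hcC (C.inv_mem hx.2)) (C.inv_mem hcC))
    have hA' : n * c * n⁻¹ * c⁻¹ ∈ d.A := mul_mem ((mem_normalizer_iff.1 hn c).1 hc) (inv_mem hc)
    have hnc : n * c * n⁻¹ * c⁻¹ ∈ C :=
      mul_mem (mul_mem (mul_mem hnC hcC) (inv_mem hnC)) (inv_mem hcC)
    have e : π ⟨_, h2⟩ = π ⟨_, hnc⟩ := by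
      rw [show (⟨_, h2⟩ : C) =
          ⟨n * o, hx.2⟩ * (⟨c, hcC⟩ * (⟨n * o, hx.2⟩ : C)⁻¹ * (⟨c, hcC⟩ : C)⁻¹) from rfl,
        show (⟨_, hnc⟩ : C) = ⟨n, hnC⟩ * ⟨c, hcC⟩ * (⟨n, hnC⟩ : C)⁻¹ * (⟨c, hcC⟩ : C)⁻¹ from rfl]
      simp only [map_mul, map_inv, hπx, mul_assoc]
    have e2 : π ⟨_, hnc⟩ = 1 := by
      have h5 : orderOf (π ⟨_, hnc⟩) ∣ 2 := orderOf_dvd_of_pow_eq_one (by
        rw [← map_pow, show (⟨_, hnc⟩ : C) ^ 2 = 1 from
          Subtype.ext (by rw [pow_two]; exact d.hexp _ hA'), map_one])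
      have h6 : Odd (orderOf (π ⟨_, hnc⟩)) := by
        rw [← e]
        refine (odd_orderOf_of_mem (odd_core a) h1).of_dvd_nat ((orderOf_map_dvd _ _).trans ?_)
        rw [Subgroup.orderOf_mk]
      exact orderOf_eq_one_iff.1
        (Nat.eq_one_of_dvd_coprimes (Nat.coprime_two_right.2 h6) dvd_rfl h5)
    have h3' : n * c * n⁻¹ * c⁻¹ ∈ Cfsg.centralizerPPrimeCore 2 b :=
      mem_core_iff.2 ⟨hnc, (QuotientGroup.eq_one_iff _).1 e2⟩
    exact mul_inv_eq_iff_eq_mul.1
      (mul_inv_eq_one.1 (eq_one_of_pGroup_odd (d.T.2.to_le d.hAT) (odd_core b) hA' h3'))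
  have hk : d.π ⟨n, hn⟩ = 1 :=
    d.π_centralizing_A0 hn fun c hc => hcen c (d.A0_le hc)
  obtain ⟨a', ha', e, he, h'⟩ := (d.hker _).1 hk
  have h' : n = a' * e := h'
  have he' := d.D_le_core h3 hb hb1 he
  obtain ⟨heC, heo⟩ := mem_core_iff.1 he'
  have ha'C : a' ∈ C := mem_centralizer_singleton_iff.2 (d.hcomm a' ha' b hb)
  have ha'1 : π ⟨a', ha'C⟩ = 1 := by
    have e1 : π ⟨n * o, hx.2⟩ = π ⟨a', ha'C⟩ := by
      rw [hπx, show (⟨n, hnC⟩ : C) = ⟨a', ha'C⟩ * ⟨e, heC⟩ from Subtype.ext h', map_mul,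
        show π ⟨e, heC⟩ = 1 from (QuotientGroup.eq_one_iff _).2 heo, mul_one]
    have h5 : orderOf (π ⟨a', ha'C⟩) ∣ 2 := orderOf_dvd_of_pow_eq_one (by
      rw [← map_pow, show (⟨a', ha'C⟩ : C) ^ 2 = 1 from
        Subtype.ext (by rw [pow_two]; exact d.hexp a' ha'), map_one])
    have h6 : Odd (orderOf (π ⟨a', ha'C⟩)) := by
      rw [← e1]
      refine (odd_orderOf_of_mem (odd_core a) hx.1).of_dvd_nat ((orderOf_map_dvd _ _).trans ?_)
      rw [Subgroup.orderOf_mk]
    exact orderOf_eq_one_iff.1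
      (Nat.eq_one_of_dvd_coprimes (Nat.coprime_two_right.2 h6) dvd_rfl h5)
  have : a' = 1 := eq_one_of_pGroup_odd (d.T.2.to_le d.hAT) (odd_core b) ha'
    (mem_core_iff.2 ⟨ha'C, (QuotientGroup.eq_one_iff _).1 ha'1⟩)
  rw [h', this, one_mul]
  exact mul_mem he' ho

theorem main (h3 : ThreeClasses G) : (d.A ⊔ Cfsg.oddCore G).Normal := by
  haveI : Fact (Nat.Prime 2) := ⟨Nat.prime_two⟩
  have hY := odd_coreClosure d.hcomm (fun a ha => by rw [pow_two]; exact d.hexp a ha)
    (by rw [d.hA16]; norm_num) (d.balanced h3)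
  have hNY := normalizer_le_normalizer_coreClosure d.A
  set N := normalizer (d.A : Set G) with hN
  set Y := coreClosure d.A
  have hA : ∀ a ∈ d.A, a ≠ 1 → centralizer ({a} : Set G) ≤ N ⊔ Y := by
    intro a ha ha1 g hg
    obtain ⟨n, hn, o, ho, rfl⟩ := d.cent_A h3 ha ha1 hg
    exact mul_mem (mem_sup_left hn) (mem_sup_right (core_le_closure ha ha1 ho))
  have htop : N ⊔ Y = ⊤ := by
    refine eq_top_of_centralizers d.T (d.hTN.trans le_sup_left)
      (d.normalizer_T_le.trans le_sup_left) (fun t htT hto => ?_)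
      (u := d.f {4}) (v := d.f {0, 1}) (d.orderOf_f (d.single_ne_one 4))
      (d.orderOf_f fun e => by
        have := d.f_eq_one.1 e
        revert this; decide)
      (d.not_conj_single_pair (by decide))
    by_cases htA : t ∈ d.A
    · exact hA t htA (Invol.invol_ne_one hto)
    -- `t` lies outside `A`
    have hπt : d.π ⟨t, d.hTN htT⟩ ≠ 1 := fun h => htA (d.mem_A_of_ker htT h)
    obtain ⟨h4, h2⟩ := d.hTim ⟨t, d.hTN htT⟩ htT
    set C := centralizer ({t} : Set G) with hC
    have hzC : d.z ∈ C := mem_centralizer_singleton_iff.2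
      (mem_centralizer_singleton_iff.1 (d.T_le_centralizer_z htT)).symm
    have hzo : orderOf d.z = 2 := d.orderOf_f (d.single_ne_one 4)
    have hiso : Cfsg.IsIsolatedInvolution (⟨d.z, hzC⟩ : C) := by
      refine ⟨by rw [Subgroup.orderOf_mk, hzo], fun c hc => Subtype.ext ?_⟩
      have hc' : d.z * ((c : G) * d.z * (c : G)⁻¹) = (c : G) * d.z * (c : G)⁻¹ * d.z :=
        congrArg Subtype.val hc.eq
      set h := (c : G) * d.z * (c : G)⁻¹ with hh
      have hht : h * t = t * h := by
        have hct := mem_centralizer_singleton_iff.1 c.2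
        have hzt := mem_centralizer_singleton_iff.1 hzC
        calc h * t = (c : G) * d.z * (c : G)⁻¹ * t * (c : G) * (c : G)⁻¹ := by rw [hh]; group
          _ = (c : G) * d.z * (c : G)⁻¹ * ((c : G) * t) * (c : G)⁻¹ := by
              rw [hct]; group
          _ = (c : G) * (d.z * t) * (c : G)⁻¹ := by group
          _ = (c : G) * (t * d.z) * (c : G)⁻¹ := by rw [hzt]
          _ = ((c : G) * t) * d.z * (c : G)⁻¹ := by group
          _ = t * h := by rw [hct, hh]; group
      have hhh : h * h = 1 := Invol.invol_mul_self (by rw [hh, Invol.orderOf_conj_eq, hzo])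
      -- a Sylow subgroup containing the three involutions
      have htt : t * t = 1 := Invol.invol_mul_self hto
      have hzt : d.z * t = t * d.z := mem_centralizer_singleton_iff.1 hzC
      have hp : IsPGroup 2 ↥(zpowers h ⊔ zpowers d.z ⊔ zpowers t) := by
        refine ((isPGroup_zpowers_of_sq hhh).to_sup_of_normal_right'
          (isPGroup_zpowers_of_sq (d.hexp _ (d.f_mem _))) ?_).to_sup_of_normal_right'
          (isPGroup_zpowers_of_sq htt) (sup_le ?_ ?_)
        all_goals refine zpowers_le.2 (mem_normalizer_of_conj_gens (zpowers_eq_closure _) ?_)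
        all_goals intro w hw; rw [Set.mem_singleton_iff.1 hw]
        · rw [← hc', mul_inv_cancel_right]; exact mem_zpowers _
        · rw [hht, mul_inv_cancel_right]; exact mem_zpowers _
        · rw [hzt, mul_inv_cancel_right]; exact mem_zpowers _
      obtain ⟨g, hg⟩ := Invol.exists_conj_mem_sylow d.T hp
      have hgh := hg h (mem_sup_left (mem_sup_left (mem_zpowers _)))
      have hgz := hg d.z (mem_sup_left (mem_sup_right (mem_zpowers _)))
      have hgt := hg t (mem_sup_right (mem_zpowers _))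
      have hgzA := d.strongly_closed h3 (d.f_mem {4}) (d.hTN hgz)
      have hghA : g * h * g⁻¹ ∈ d.A := by
        have e : g * h * g⁻¹ = (g * (c : G)) * d.z * (g * (c : G))⁻¹ := by rw [hh]; group
        rw [e]
        exact d.strongly_closed h3 (d.f_mem _) (e ▸ d.hTN hgh)
      have hgtA : g * t * g⁻¹ ∉ d.A := fun hA' => htA (by
        have := d.strongly_closed h3 hA' (g := g⁻¹)
          (by rw [show g⁻¹ * (g * t * g⁻¹) * g⁻¹⁻¹ = t by group]; exact d.hTN htT)
        rwa [show g⁻¹ * (g * t * g⁻¹) * g⁻¹⁻¹ = t by group] at this)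
      have hπg : d.π ⟨g * t * g⁻¹, d.hTN hgt⟩ ≠ 1 := fun h => hgtA (d.mem_A_of_ker hgt h)
      obtain ⟨h4', h2'⟩ := d.hTim ⟨g * t * g⁻¹, d.hTN hgt⟩ hgt
      obtain ⟨i, hi⟩ := d.single_of_conj hgzA (isConj_iff.2 ⟨g, rfl⟩)
      obtain ⟨j, hj⟩ := d.single_of_conj (i := 4) hghA
        (isConj_iff.2 ⟨g * (c : G), by rw [hh]; group⟩)
      have key : ∀ w i, g * w * g⁻¹ = d.f {i} → w * t = t * w → i = 4 := by
        intro w i hw hwt
        refine fixed_single_of_ne_one _ (d.hsign _) h2' h4' hπg i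
          ((d.commute_f_iff (d.hTN hgt) {i}).1 ?_)
        rw [← hw, show g * t * g⁻¹ * (g * w * g⁻¹) = g * (t * w) * g⁻¹ by group, ← hwt]
        group
      rw [key _ i hi hzt] at hi
      rw [key _ j hj hht] at hj
      exact mul_left_cancel (mul_right_cancel (hj.trans hi.symm))
    intro g hg
    have hkey := Invol.zstar ↥C hiso ⟨g, hg⟩
    have hcore : d.z * g * d.z⁻¹ * g⁻¹ ∈ Cfsg.centralizerPPrimeCore 2 t :=
      mem_core_iff.2 ⟨mul_mem (mul_mem (mul_mem hzC hg) (inv_mem hzC)) (inv_mem hg), hkey⟩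
    have hcoreM : Cfsg.centralizerPPrimeCore 2 t ≤ N ⊔ Y := by
      -- generated by the centralizers of two involutions of `A`
      set E : Subgroup G := d.A ⊓ centralizer ({t} : Set G) with hE
      have hEc : IsMulCommutative ↥E := ⟨⟨fun u v => Subtype.ext
        (d.hcomm u u.2.1 v v.2.1)⟩⟩
      have hnc : ¬ IsCyclic ↥E := by
        intro hcy
        obtain ⟨g₀, hg₀⟩ := hcy.exists_ofOrder_eq_natCard
        have h2E : Nat.card E ≤ 2 := by
          rw [← hg₀]
          exact orderOf_le_of_pow_eq_one two_pos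
            (Subtype.ext (by rw [pow_two]; exact d.hexp _ g₀.2.1))
        have h3E : 3 ≤ Nat.card E := by
          -- the fixed classes of a nontrivial permutation of the four-group
          have hc4 := card_fixed_class _ (d.hsign _) h2 hπt h4
          have hinj : 4 ≤ Nat.card E := by
            rw [← hc4, ← Nat.card_eq_finsetCard]
            refine Nat.card_le_card_of_injective (fun s => ⟨d.f s.1, d.f_mem _, ?_⟩) ?_
            · exact mem_centralizer_singleton_iff.2
                ((d.commute_f_iff (d.hTN htT) s.1).2 (Finset.mem_filter.1 s.2).2.2).symm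
            · intro s r e
              rcases (d.f_eq _ _).1 (congrArg Subtype.val e :) with h | h
              · exact Subtype.ext h
              · exact absurd (h ▸ Finset.mem_compl.2 (Finset.mem_filter.1 r.2).2.1)
                  (Finset.mem_filter.1 s.2).2.1
          omega
        omega
      rw [← CfsgLib.Coprime.iSup_centralizer_eq hEc hnc
        (inf_le_right.trans (Comp.centralizer_le_normalizer_centralizerPPrimeCore t))
        (Nat.Coprime.coprime_dvd_left (card_dvd_of_le inf_le_left)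
          (by
            rw [d.hA16, show 16 = 2 ^ 4 from rfl]
            exact Nat.Coprime.pow_left 4 (Nat.coprime_two_left.2 (odd_core t))))]
      exact iSup_le fun b => inf_le_right.trans (hA b b.2.1.1 b.2.2)
    have hw : orderOf (g * d.z * g⁻¹) = 2 := by rw [Invol.orderOf_conj_eq, hzo]
    have hwz : g * d.z * g⁻¹ * d.z = (d.z * g * d.z⁻¹ * g⁻¹)⁻¹ := by
      rw [show (d.z * g * d.z⁻¹ * g⁻¹)⁻¹ = g * d.z * g⁻¹ * d.z⁻¹ by group,
        Invol.invol_inv hzo]
    obtain ⟨dd, hdd, hconj⟩ := exists_conj_of_coset (odd_core t) hw hzo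
      (hwz ▸ inv_mem hcore)
    have hcent : dd * g ∈ centralizer ({d.z} : Set G) := by
      refine mem_centralizer_singleton_iff.2 (mul_inv_eq_iff_eq_mul.1 ?_)
      calc dd * g * d.z * (dd * g)⁻¹ = dd * (g * d.z * g⁻¹) * dd⁻¹ := by group
        _ = d.z := hconj
    have := mul_mem (inv_mem (hcoreM hdd)) (hA d.z (d.f_mem _) (d.single_ne_one 4) hcent)
    rwa [inv_mul_cancel_left] at this
  have hYn : Y.Normal := by
    rw [← normalizer_eq_top_iff, eq_top_iff, ← htop]
    exact sup_le hNY le_normalizer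
  have hYO : Y ≤ Cfsg.oddCore G := Invol.le_oddCore hYn hY
  haveI : (Cfsg.oddCore G).Normal := Solvable.pPrimeCore_normal 2 G
  rw [← normalizer_eq_top_iff, eq_top_iff, ← htop]
  refine sup_le (fun n hn => Invol.mem_normalizer_iff_of_finite fun w hw => ?_)
    ((hYO.trans le_sup_right).trans le_normalizer)
  obtain ⟨a, ha, o, ho, rfl⟩ := mem_sup_of_normal_right.1 hw
  rw [show n * (a * o) * n⁻¹ = (n * a * n⁻¹) * (n * o * n⁻¹) by group]
  exact mul_mem (mem_sup_left ((mem_normalizer_iff.1 hn a).1 ha))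
    (mem_sup_right (‹(Cfsg.oddCore G).Normal›.conj_mem o ho n))

end Data

/-- S3197. -/
theorem normal_of_hypotheses (S : Sylow 2 G) (P : Sylow 2 ↥(alternatingGroup (Fin 8)))
    (hS : Nonempty (↥(S : Subgroup G) ≃* ↥(P : Subgroup ↥(alternatingGroup (Fin 8)))))
    (h3 : Nat.card {c : ConjClasses G // ∃ x ∈ c.carrier, orderOf x = 2} = 3)
    (A : Subgroup G) (hA : Cfsg.IsElementaryAbelian 2 A) (hA16 : Nat.card ↥A = 16)
    (hNA : ∃ (_ : (A.subgroupOf (normalizer (A : Set G)) ⊔
        Cfsg.oddCore ↥(normalizer (A : Set G))).Normal),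
      Nonempty (↥(normalizer (A : Set G)) ⧸ (A.subgroupOf (normalizer (A : Set G)) ⊔
        Cfsg.oddCore ↥(normalizer (A : Set G))) ≃* ↥(alternatingGroup (Fin 5)))) :
    (A ⊔ Cfsg.oddCore G).Normal := by
  haveI : Fact (Nat.Prime 2) := ⟨Nat.prime_two⟩
  obtain ⟨e⟩ := hS
  have h64 : Nat.card (S : Subgroup G) = 64 := by
    have hfac : Nat.card ↥(alternatingGroup (Fin 8)) = 2 ^ 6 * 315 := by
      rw [nat_card_alternatingGroup, Nat.card_fin]; rfl
    rw [Nat.card_congr e.toEquiv, P.card_eq_multiplicity, hfac, Nat.factorization_mul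
      (by norm_num) (by norm_num), Nat.Prime.factorization_pow Nat.prime_two]
    rw [Finsupp.add_apply, Finsupp.single_eq_same,
      Nat.factorization_eq_zero_of_not_dvd (by decide : ¬ 2 ∣ 315)]
    rfl
  have hZ : Nat.card (center ↥(S : Subgroup G)) ≤ 2 := by
    rw [Nat.card_congr (centerCongr e).toEquiv]; exact card_center_sylow_le P
  obtain ⟨d, rfl⟩ := exists_data A hA hA16 S h64 hZ hNA
  exact d.main (threeClasses_of_card h3)

end CfsgLib.SylAltEight
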