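import Cfsg.Prelude.Def_CaseTheorems
import Cfsg.Prelude.Def_Transfer
import Mathlib.GroupTheory.SpecificGroups.Alternating.Simple
import Mathlib.Tactic
import Cfsg.Agent.Lib.Invol.BrauerSuzuki
import Cfsg.Agent.Lib.Transfer.Frobenius
import Cfsg.Agent.Lib.OddLocal.PGroup
import Cfsg.Agent.Lib.Solvable.PCore

/-!
# The normalizer of the elementary abelian subgroup of order sixteen

Its automizer is the alternating group of degree five acting on the even part of the permutation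
module: the nonidentity elements are the images of the five points and of the ten pairs.
-/

set_option autoImplicit false
set_option maxRecDepth 100000
set_option maxHeartbeats 1600000
set_option linter.style.haveILetI false

namespace CfsgLib.SylAltEight

open Subgroup Equiv

theorem perm_fix_four_trans : ∀ j k : Fin 5, j ≠ 4 → k ≠ 4 →
    ∃ σ : Perm (Fin 5), Perm.sign σ = 1 ∧ σ 4 = 4 ∧ σ j = k := by decide

theorem perm_move_four : ∀ i : Fin 5, ∃ σ : Perm (Fin 5), Perm.sign σ = 1 ∧ σ 4 = i := by decide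

theorem perm_square_of_fourth : ∀ σ : Perm (Fin 5),
    Perm.sign σ = 1 → (σ * σ) * (σ * σ) = 1 → σ * σ = 1 := by decide

theorem perm_unique_fixed : ∀ σ : Perm (Fin 5), Perm.sign σ = 1 → σ * σ = 1 → σ ≠ 1 →
    ∃ p : Fin 5, σ p = p ∧ ∀ q : Fin 5, σ q = q → q = p := by decide

theorem perm_five_cycle : ∃ σ : Perm (Fin 5), Perm.sign σ = 1 ∧ σ ≠ 1 ∧ σ ^ 5 = 1 := by decide

theorem perm_conj_four_group : ∀ ρ τ : Perm (Fin 5), ρ 4 = 4 → Perm.sign ρ = 1 → τ 4 = 4 →
    Perm.sign τ = 1 → τ * τ = 1 →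
      (ρ * τ * ρ⁻¹) 4 = 4 ∧ (ρ * τ * ρ⁻¹) * (ρ * τ * ρ⁻¹) = 1 := by
  intro ρ τ h1 _ h2 _ h3
  refine ⟨?_, by rw [show ρ * τ * ρ⁻¹ * (ρ * τ * ρ⁻¹) = ρ * (τ * τ) * ρ⁻¹ by group, h3]; group⟩
  show ρ (τ (ρ⁻¹ 4)) = 4
  rw [show ρ⁻¹ 4 = 4 from (Perm.inv_eq_iff_eq).2 h1.symm, h2, h1]

theorem card_four_perms : (Finset.univ.filter fun σ : Perm (Fin 5) =>
    Perm.sign σ = 1 ∧ σ * σ = 1 ∧ σ 4 = 4).card = 4 := by decide

universe u

variable {G : Type u} [Group G] [Finite G]

/-- The data of the local subgroup. -/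
structure Data (G : Type u) [Group G] [Finite G] where
  /-- The elementary abelian subgroup. -/
  A : Subgroup G
  /-- The odd part of the centralizer. -/
  D : Subgroup G
  /-- A Sylow 2-subgroup normalizing `A`. -/
  T : Sylow 2 G
  /-- The action on five points. -/
  π : ↥(normalizer (A : Set G)) →* Perm (Fin 5)
  /-- The elements of `A`, indexed by subsets up to complement. -/
  f : Finset (Fin 5) → G
  hcomm : ∀ a ∈ A, ∀ b ∈ A, a * b = b * a
  hexp : ∀ a ∈ A, a * a = 1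
  hA16 : Nat.card A = 16
  hT64 : Nat.card (T : Subgroup G) = 64
  hTN : (T : Subgroup G) ≤ normalizer (A : Set G)
  hAT : A ≤ (T : Subgroup G)
  hDodd : Odd (Nat.card D)
  hDN : D ≤ normalizer (A : Set G)
  hDnorm : normalizer (A : Set G) ≤ normalizer (D : Set G)
  hAD : ∀ a ∈ A, ∀ d ∈ D, a * d = d * a
  hker : ∀ n, π n = 1 ↔ ∃ a ∈ A, ∃ d ∈ D, (n : G) = a * d
  hsign : ∀ n, Perm.sign (π n) = 1
  hsurj : ∀ σ : Perm (Fin 5), Perm.sign σ = 1 → ∃ n, π n = σ
  hTim : ∀ n : ↥(normalizer (A : Set G)), (n : G) ∈ (T : Subgroup G) →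
    π n 4 = 4 ∧ π n * π n = 1
  hTsurj : ∀ σ : Perm (Fin 5), Perm.sign σ = 1 → σ * σ = 1 → σ 4 = 4 →
    ∃ n : ↥(normalizer (A : Set G)), (n : G) ∈ (T : Subgroup G) ∧ π n = σ
  f_mem : ∀ s, f s ∈ A
  f_surj : ∀ a ∈ A, ∃ s, f s = a
  f_eq : ∀ s t, f s = f t ↔ s = t ∨ s = tᶜ
  f_mul : ∀ s t, f s * f t = f (symmDiff s t)
  f_conj : ∀ (n : ↥(normalizer (A : Set G))) s, (n : G) * f s * (n : G)⁻¹ = f (s.image (π n))

/-- The local data exists. -/
theorem exists_data (A : Subgroup G) (hA : Cfsg.IsElementaryAbelian 2 A) (hA16 : Nat.card A = 16)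
    (S : Sylow 2 G) (hS64 : Nat.card (S : Subgroup G) = 64)
    (hZ : Nat.card (center ↥(S : Subgroup G)) ≤ 2)
    (hNA : ∃ (_ : (A.subgroupOf (normalizer (A : Set G)) ⊔
        Cfsg.oddCore ↥(normalizer (A : Set G))).Normal),
      Nonempty (↥(normalizer (A : Set G)) ⧸ (A.subgroupOf (normalizer (A : Set G)) ⊔
        Cfsg.oddCore ↥(normalizer (A : Set G))) ≃* ↥(alternatingGroup (Fin 5)))) :
    ∃ d : Data G, d.A = A := by
  classical
  haveI : Fact (Nat.Prime 2) := ⟨Nat.prime_two⟩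
  have hcomm : ∀ a ∈ A, ∀ b ∈ A, a * b = b * a := fun a ha b hb =>
    congrArg Subtype.val (hA.1.is_comm.comm ⟨a, ha⟩ ⟨b, hb⟩)
  have hexp : ∀ a ∈ A, a * a = 1 := fun a ha => by rw [← pow_two]; exact hA.2 a ha
  let N := normalizer (A : Set G)
  let A₀ : Subgroup ↥N := A.subgroupOf N
  let O₀ : Subgroup ↥N := Cfsg.oddCore ↥N
  haveI hAn : A₀.Normal := normal_in_normalizer
  haveI hOn : O₀.Normal := Cfsg.pPrimeCore_normal 2 ↥N
  have hA₀16 : Nat.card A₀ = 16 := by
    rw [Nat.card_congr (subgroupOfEquivOfLe (le_normalizer (H := A))).toEquiv, hA16]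
  obtain ⟨hKn, ⟨e⟩⟩ := hNA
  haveI : (A₀ ⊔ O₀).Normal := hKn
  let φ : ↥N →* ↥(alternatingGroup (Fin 5)) := e.toMonoidHom.comp (QuotientGroup.mk' (A₀ ⊔ O₀))
  have hφs : Function.Surjective φ := e.surjective.comp (QuotientGroup.mk'_surjective _)
  have hφk : φ.ker = A₀ ⊔ O₀ := by
    ext x
    simp only [φ, MonoidHom.mem_ker, MonoidHom.comp_apply, MulEquiv.toMonoidHom_eq_coe,
      MonoidHom.coe_coe, MulEquiv.map_eq_one_iff, QuotientGroup.mk'_apply,
      QuotientGroup.eq_one_iff]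
  let π : ↥N →* Perm (Fin 5) := (alternatingGroup (Fin 5)).subtype.comp φ
  have hsign : ∀ n, Perm.sign (π n) = 1 := fun n => (φ n).2
  have hsurj : ∀ σ : Perm (Fin 5), Perm.sign σ = 1 → ∃ n, π n = σ := fun σ hσ => by
    obtain ⟨n, hn⟩ := hφs ⟨σ, hσ⟩
    exact ⟨n, congrArg Subtype.val hn⟩
  let D : Subgroup G := O₀.map N.subtype
  have hDodd : Odd (Nat.card D) := by
    rw [card_map_of_injective N.subtype_injective]; exact Invol.odd_card_oddCore ↥N
  have hDN : D ≤ N := map_subtype_le _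
  have hDnorm : N ≤ normalizer (D : Set G) := le_normalizer_map _ |>.trans' (by
    rw [(normalizer_eq_top_iff (H := O₀)).2 hOn, ← MonoidHom.range_eq_map, range_subtype])
  have hker : ∀ n, π n = 1 ↔ ∃ a ∈ A, ∃ d ∈ D, (n : G) = a * d := fun n => by
    have h : π n = 1 ↔ n ∈ A₀ ⊔ O₀ := by
      rw [← hφk, MonoidHom.mem_ker]
      exact ⟨fun h => Subtype.ext h, fun h => congrArg Subtype.val h⟩
    rw [h, mem_sup_of_normal_right]
    constructor
    · rintro ⟨a, ha, d, hd, rfl⟩; exact ⟨(a : G), ha, (d : G), ⟨d, hd, rfl⟩, rfl⟩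
    · rintro ⟨a, ha, _, ⟨d, hd, rfl⟩, e'⟩
      exact ⟨⟨a, le_normalizer ha⟩, ha, d, hd, Subtype.ext e'.symm⟩
  have hA1 : ∀ x ∈ A, x ∈ D → x = 1 := fun x hx hxD => by
    have h1 : orderOf x ∣ 2 := orderOf_dvd_of_pow_eq_one (hA.2 x hx)
    exact orderOf_eq_one_iff.1 (Nat.eq_one_of_dvd_coprimes
      (Nat.coprime_two_left.2 hDodd) h1 (D.orderOf_dvd_natCard hxD))
  have hAD : ∀ a ∈ A, ∀ d ∈ D, a * d = d * a := fun a ha d hd => by
    have h1 : a * (d * a⁻¹ * d⁻¹) ∈ A :=
      mul_mem ha ((mem_normalizer_iff.1 (hDN hd) _).1 (inv_mem ha))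
    have h2 : a * d * a⁻¹ * d⁻¹ ∈ D :=
      mul_mem ((mem_normalizer_iff.1 (hDnorm (le_normalizer ha)) _).1 hd) (inv_mem hd)
    have h3 := hA1 _ h1 (by simpa [mul_assoc] using h2)
    calc a * d = a * (d * a⁻¹ * d⁻¹) * (d * a) := by group
      _ = d * a := by rw [h3, one_mul]
  -- a Sylow subgroup of `N`, moved to the standard four-group
  obtain ⟨R₀⟩ : Nonempty (Sylow 2 ↥N) := inferInstance
  have h16ker : 16 ∣ Nat.card φ.ker := hφk ▸ hA₀16 ▸ card_dvd_of_le le_sup_left
  have hR64 : ∀ R : Sylow 2 ↥N, Nat.card (R : Subgroup ↥N) = 64 := fun R => by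
    have hp : IsPGroup 2 ↥((R : Subgroup ↥N).map N.subtype) := R.2.map _
    obtain ⟨Q, hQ⟩ := hp.exists_le_sylow
    have hle : Nat.card (R : Subgroup ↥N) ≤ 64 := by
      rw [← card_map_of_injective N.subtype_injective, ← hS64, ← Nat.card_congr (Q.equiv S).toEquiv]
      exact card_le_of_le hQ
    have h60 : 64 ∣ Nat.card ↥N := by
      rw [card_eq_card_quotient_mul_card_subgroup φ.ker,
        Nat.card_congr (QuotientGroup.quotientKerEquivOfSurjective φ hφs).toEquiv,
        nat_card_alternatingGroup, Nat.card_fin]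
      exact (show 64 ∣ Nat.factorial 5 / 2 * 16 from ⟨15, by decide⟩).trans
        (Nat.mul_dvd_mul_left _ h16ker)
    obtain ⟨k, hk⟩ := IsPGroup.iff_card.1 R.2
    have hd := R.pow_dvd_card_of_pow_dvd_card (show 2 ^ 6 ∣ Nat.card ↥N from h60)
    exact le_antisymm hle (Nat.le_of_dvd Nat.card_pos hd)
  have hAR : ∀ R : Sylow 2 ↥N, A₀ ≤ (R : Subgroup ↥N) := fun R => by
    refine Solvable.normal_pgroup_le_sylow (fun x => ⟨1, Subtype.ext ?_⟩) R
    exact Subtype.ext (by simpa [pow_two] using hexp _ x.2)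
  -- the image of a Sylow subgroup
  have himg : ∀ R : Sylow 2 ↥N, Nat.card ((R : Subgroup ↥N).map π) = 4 := fun R => by
    let g : ↥(R : Subgroup ↥N) →* Perm (Fin 5) := π.comp (R : Subgroup ↥N).subtype
    have hk : g.ker = A₀.subgroupOf (R : Subgroup ↥N) := by
      ext x
      simp only [g, MonoidHom.mem_ker, MonoidHom.comp_apply, mem_subgroupOf, coe_subtype]
      refine ⟨fun h => ?_, fun h => (hker _).2 ⟨_, h, 1, one_mem D, (mul_one _).symm⟩⟩
      obtain ⟨a, ha, d, hd, e'⟩ := (hker _).1 h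
      have hdR : (⟨d, hDN hd⟩ : ↥N) ∈ (R : Subgroup ↥N) := by
        rw [show (⟨d, hDN hd⟩ : ↥N) = (⟨a, le_normalizer ha⟩ : ↥N)⁻¹ * (x : ↥N) from
          Subtype.ext (by simp [e'])]
        exact mul_mem (inv_mem (hAR R ha)) x.2
      obtain ⟨k, hk⟩ := R.2 ⟨_, hdR⟩
      have hd1 : d = 1 := by
        have hk' : d ^ 2 ^ k = 1 := by simpa using congrArg (fun y : ↥(R : Subgroup ↥N) => ((y : ↥N) : G)) hk
        exact orderOf_eq_one_iff.1 (Nat.eq_one_of_dvd_coprimes
          (Nat.Coprime.pow_left k (Nat.coprime_two_left.2 hDodd))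
          (orderOf_dvd_of_pow_eq_one hk') (D.orderOf_dvd_natCard hd))
      show ((x : ↥N) : G) ∈ A
      rw [e', hd1, mul_one]; exact ha
    have h1 := card_eq_card_quotient_mul_card_subgroup g.ker
    rw [Nat.card_congr (QuotientGroup.quotientKerEquivRange g).toEquiv, hR64 R, hk,
      Nat.card_congr (subgroupOfEquivOfLe (hAR R)).toEquiv, hA₀16, MonoidHom.range_comp,
      range_subtype] at h1
    omega
  -- the points fixed by the image
  have hfix : ∀ R : Sylow 2 ↥N, ∃ p : Fin 5, ∀ r ∈ (R : Subgroup ↥N), π r p = p ∧ π r * π r = 1 := by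
    intro R
    have hsq : ∀ r ∈ (R : Subgroup ↥N), π r * π r = 1 := fun r hr => by
      refine perm_square_of_fourth _ (hsign r) ?_
      have h4 : (⟨π r, mem_map_of_mem π hr⟩ : (R : Subgroup ↥N).map π) ^ 4 = 1 :=
        himg R ▸ pow_card_eq_one'
      simpa [pow_succ, mul_assoc] using congrArg Subtype.val h4
    haveI : Nontrivial ↥((R : Subgroup ↥N).map π) :=
      Finite.one_lt_card_iff_nontrivial.1 (by rw [himg R]; norm_num)
    obtain ⟨⟨_, r₀, hr₀, rfl⟩, hne⟩ := exists_ne (1 : ↥((R : Subgroup ↥N).map π))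
    have hne' : π r₀ ≠ 1 := fun h => hne (Subtype.ext h)
    obtain ⟨p, hp, hpu⟩ := perm_unique_fixed _ (hsign r₀) (hsq r₀ hr₀) hne'
    refine ⟨p, fun r hr => ⟨hpu _ ?_, hsq r hr⟩⟩
    have hc : π r₀ * π r = π r * π r₀ := by
      have h1 := hsq _ (mul_mem hr₀ hr)
      rw [map_mul] at h1
      rw [mul_eq_one_iff_eq_inv, mul_inv_rev, inv_eq_of_mul_eq_one_right (hsq r hr),
        inv_eq_of_mul_eq_one_right (hsq r₀ hr₀)] at h1
      exact h1
    show π r₀ (π r p) = π r p
    rw [← Perm.mul_apply, hc, Perm.mul_apply, hp]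
  obtain ⟨p, hp⟩ := hfix R₀
  obtain ⟨σ₀, hσ₀, hσ₀4⟩ := perm_move_four p
  obtain ⟨g₀, hg₀⟩ := hsurj σ₀ hσ₀
  let R : Sylow 2 ↥N := g₀⁻¹ • R₀
  have hTim : ∀ r ∈ (R : Subgroup ↥N), π r 4 = 4 ∧ π r * π r = 1 := fun r hr => by
    have hr' : g₀ * r * g₀⁻¹ ∈ (R₀ : Subgroup ↥N) := by
      have h := Transfer.sylow_smul_mem_iff.1 hr
      rwa [inv_inv] at h
    obtain ⟨h1, h2⟩ := hp _ hr'
    rw [map_mul, map_mul, map_inv, hg₀] at h1 h2
    refine ⟨σ₀.injective ?_, ?_⟩
    · rw [hσ₀4]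
      rw [Perm.mul_apply, Perm.mul_apply, Perm.inv_eq_iff_eq.2 hσ₀4.symm] at h1
      exact h1
    · calc π r * π r = σ₀⁻¹ * (σ₀ * π r * σ₀⁻¹ * (σ₀ * π r * σ₀⁻¹)) * σ₀ := by group
        _ = 1 := by rw [h2]; group
  have hTsurj : ∀ σ : Perm (Fin 5), Perm.sign σ = 1 → σ * σ = 1 → σ 4 = 4 →
      ∃ r ∈ (R : Subgroup ↥N), π r = σ := fun σ h1 h2 h3 => by
    let V := Finset.univ.filter fun σ : Perm (Fin 5) => Perm.sign σ = 1 ∧ σ * σ = 1 ∧ σ 4 = 4
    have hsub : ((R : Subgroup ↥N).map π : Set (Perm (Fin 5))).toFinset = V := by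
      refine Finset.eq_of_subset_of_card_le (fun τ hτ => ?_) ?_
      · obtain ⟨r, hr, rfl⟩ := Set.mem_toFinset.1 hτ
        exact Finset.mem_filter.2 ⟨Finset.mem_univ _, hsign r, (hTim r hr).2, (hTim r hr).1⟩
      · rw [card_four_perms, Set.toFinset_card, ← Nat.card_eq_fintype_card]
        exact (himg R).ge
    have hσ : σ ∈ V := Finset.mem_filter.2 ⟨Finset.mem_univ _, h1, h2, h3⟩
    rw [← hsub, Set.mem_toFinset] at hσ
    exact hσ
  -- move up to `G`
  let T₀ : Subgroup G := (R : Subgroup ↥N).map N.subtype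
  have hT₀ : Nat.card T₀ = 64 := by
    rw [card_map_of_injective N.subtype_injective, hR64]
  let T : Sylow 2 G := Sylow.ofCard T₀ (by
    rw [hT₀, ← hS64, S.card_eq_multiplicity])
  have hTT : (T : Subgroup G) = T₀ := Sylow.coe_ofCard _ _
  have hmemT : ∀ n : ↥N, (n : G) ∈ (T : Subgroup G) ↔ n ∈ (R : Subgroup ↥N) := fun n => by
    rw [hTT]
    exact mem_map_iff_mem N.subtype_injective
  have hAT : A ≤ (T : Subgroup G) := fun a ha =>
    (hmemT ⟨a, le_normalizer ha⟩).2 (hAR R ha)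
  have hTN : (T : Subgroup G) ≤ N := hTT.trans_le (map_subtype_le _)
  -- the centralizer of `A` is the kernel
  have hfaith : ∀ n : ↥N, (∀ a ∈ A, (n : G) * a = a * (n : G)) → π n = 1 := by
    let C : Subgroup ↥N := (centralizer (A : Set G)).comap N.subtype
    haveI : C.Normal := ⟨fun c hc g => mem_centralizer_iff.2 fun a ha => by
      have ha' : (g : G)⁻¹ * a * (g : G) ∈ A := (mem_normalizer_iff''.1 g.2 a).1 ha
      have h : (g : G)⁻¹ * a * (g : G) * (c : G) = (c : G) * ((g : G)⁻¹ * a * (g : G)) :=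
        mem_centralizer_iff.1 hc _ ha'
      show a * ((g : G) * (c : G) * (g : G)⁻¹) = (g : G) * (c : G) * (g : G)⁻¹ * a
      calc a * ((g : G) * (c : G) * (g : G)⁻¹)
          = (g : G) * ((g : G)⁻¹ * a * (g : G) * (c : G)) * (g : G)⁻¹ := by group
        _ = (g : G) * ((c : G) * ((g : G)⁻¹ * a * (g : G))) * (g : G)⁻¹ := by rw [h]
        _ = _ := by group⟩
    haveI : (C.map φ).Normal := Normal.map inferInstance φ hφs
    intro n hn
    rcases IsSimpleGroup.eq_bot_or_eq_top_of_normal (C.map φ) inferInstance with h | h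
    · have hnC : n ∈ C := mem_centralizer_iff.2 fun a ha => (hn a ha).symm
      have : φ n = 1 := by
        have := mem_map_of_mem φ hnC
        rwa [h, mem_bot] at this
      exact congrArg Subtype.val this
    · exfalso
      have hall : ∀ m : ↥N, ∀ a ∈ A, (m : G) * a = a * (m : G) := fun m a ha => by
        obtain ⟨c, hc, hcm⟩ : φ m ∈ C.map φ := h ▸ mem_top _
        have hk : π (c⁻¹ * m) = 1 := by
          show ((φ (c⁻¹ * m) : ↥(alternatingGroup (Fin 5))) : Perm (Fin 5)) = 1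
          rw [map_mul, map_inv, hcm, inv_mul_cancel]; rfl
        obtain ⟨b, hb, d, hd, e'⟩ := (hker _).1 hk
        have hca : (c : G) * a = a * (c : G) := (mem_centralizer_iff.1 hc a ha).symm
        rw [show (m : G) = (c : G) * (b * d) from by simp [← e'], mul_assoc, mul_assoc,
          ← hAD a ha d hd, ← mul_assoc b, ← hcomm a ha b hb, mul_assoc a, ← mul_assoc, hca,
          mul_assoc]
      have h16 : 16 ≤ Nat.card (center ↥(T : Subgroup G)) := by
        rw [← hA16, ← Nat.card_congr (subgroupOfEquivOfLe hAT).toEquiv]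
        refine card_le_of_le fun x hx => mem_center_iff.2 fun t => Subtype.ext ?_
        exact hall ⟨t, hTN t.2⟩ x hx
      rw [Nat.card_congr (centerCongr (T.equiv S)).toEquiv] at h16
      omega
  -- the point of the Sylow subgroup
  have hzT : ∀ a ∈ A, (∀ t ∈ (T : Subgroup G), t * a = a * t) →
      ∀ hm : a ∈ (T : Subgroup G), (⟨a, hm⟩ : ↥(T : Subgroup G)) ∈ center ↥(T : Subgroup G) :=
    fun a _ h hm => mem_center_iff.2 fun t => Subtype.ext (h t t.2)
  obtain ⟨z, hz, hz1, hzc⟩ : ∃ z ∈ A, z ≠ 1 ∧ ∀ t ∈ (T : Subgroup G), t * z = z * t := by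
    let A₁ := A.subgroupOf (T : Subgroup G)
    haveI : A₁.Normal := normal_subgroupOf_iff_le_normalizer hAT |>.2 hTN
    haveI : Nontrivial A₁ := Finite.one_lt_card_iff_nontrivial.1 (by
      rw [Nat.card_congr (subgroupOfEquivOfLe hAT).toEquiv, hA16]; norm_num)
    obtain ⟨x, hx, hx1, hxc⟩ := OddLocal.exists_center_of_normal_ne_bot T.2 A₁
      ((Subgroup.nontrivial_iff_ne_bot A₁).1 inferInstance)
    exact ⟨x, hx, fun e' => hx1 (Subtype.ext e'),
      fun t ht => congrArg Subtype.val (mem_center_iff.1 hxc ⟨t, ht⟩)⟩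
  have hzu : ∀ a ∈ A, (∀ t ∈ (T : Subgroup G), t * a = a * t) → a = 1 ∨ a = z := by
    intro a ha h
    by_contra hne
    push Not at hne
    have h3 : 2 < Nat.card (center ↥(T : Subgroup G)) := by
      have h1 := hzT a ha h (hAT ha)
      have h2 := hzT z hz hzc (hAT hz)
      let S3 : Finset ↥(T : Subgroup G) := {1, ⟨a, hAT ha⟩, ⟨z, hAT hz⟩}
      have hc3 : S3.card = 3 := Finset.card_eq_three.2 ⟨1, ⟨a, hAT ha⟩, ⟨z, hAT hz⟩,
        fun e' => hne.1 (congrArg Subtype.val e').symm, fun e' => hz1 (congrArg Subtype.val e').symm,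
        fun e' => hne.2 (congrArg Subtype.val e'), rfl⟩
      have hsub : (S3 : Set ↥(T : Subgroup G)) ⊆ (center ↥(T : Subgroup G) : Set _) := by
        intro x hx
        simp only [S3, Finset.coe_insert, Finset.coe_singleton, Set.mem_insert_iff,
          Set.mem_singleton_iff] at hx
        rcases hx with rfl | rfl | rfl
        exacts [one_mem _, h1, h2]
      have := Set.ncard_le_ncard hsub
      rw [Set.ncard_coe_finset, hc3, ← Nat.card_coe_set_eq] at this
      exact Nat.lt_of_succ_le this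
    rw [Nat.card_congr (centerCongr (T.equiv S)).toEquiv] at h3
    omega
  -- the stabilizer of `z`
  have hfix4 : ∀ n : ↥N, π n 4 = 4 → (n : G) * z * (n : G)⁻¹ = z := by
    intro n hn
    have hmem : (n : G) * z * (n : G)⁻¹ ∈ A := (mem_normalizer_iff.1 n.2 z).1 hz
    refine (hzu _ hmem fun t ht => ?_).resolve_left fun e' => hz1 (conj_eq_one_iff.1 e')
    set u : ↥N := n⁻¹ * ⟨t, hTN ht⟩ * n
    obtain ⟨h1, h2⟩ := hTim _ ((hmemT ⟨t, hTN ht⟩).1 ht)
    obtain ⟨h4, h5⟩ := perm_conj_four_group (π n)⁻¹ (π ⟨t, hTN ht⟩)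
      (Perm.inv_eq_iff_eq.2 hn.symm) (by rw [map_inv, hsign, inv_one]) h1 (hsign _) h2
    obtain ⟨r, hr, hru⟩ := hTsurj (π u) (hsign _)
      (by simpa [u, map_mul] using h5) (by simpa [u, map_mul] using h4)
    have hk : π (r⁻¹ * u) = 1 := by rw [map_mul, map_inv, hru, inv_mul_cancel]
    obtain ⟨b, hb, d, hd, e'⟩ := (hker _).1 hk
    have huz : (u : G) * z = z * (u : G) := by
      rw [show (u : G) = (r : G) * (b * d) from by simp [← e'], mul_assoc, mul_assoc,
        ← hAD z hz d hd, ← mul_assoc b, ← hcomm z hz b hb, mul_assoc z, ← mul_assoc,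
        hzc _ ((hmemT r).2 hr), mul_assoc]
    calc t * ((n : G) * z * (n : G)⁻¹) = (n : G) * ((u : G) * z) * (n : G)⁻¹ := by
          simp [u, mul_assoc]
      _ = (n : G) * (z * (u : G)) * (n : G)⁻¹ := by rw [huz]
      _ = (n : G) * z * (n : G)⁻¹ * t := by simp [u, mul_assoc]
  have hnofix : ∀ u ∈ A, (∀ n : ↥N, (n : G) * u * (n : G)⁻¹ = u) → u = 1 := by
    intro u hu hall
    by_contra hu1
    obtain ⟨σ, hσs, hσ1, hσ5⟩ := perm_five_cycle
    obtain ⟨g, hg⟩ := hsurj σ hσs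
    let c : Perm ↥A :=
      { toFun := fun a => ⟨(g : G) * a * (g : G)⁻¹, (mem_normalizer_iff.1 g.2 _).1 a.2⟩
        invFun := fun a => ⟨(g : G)⁻¹ * a * (g : G), (mem_normalizer_iff''.1 g.2 _).1 a.2⟩
        left_inv := fun a => Subtype.ext (by simp [mul_assoc])
        right_inv := fun a => Subtype.ext (by simp [mul_assoc]) }
    have hc5 : c ^ 5 ^ 1 = 1 := by
      have hk : π (g ^ 5) = 1 := by rw [map_pow, hg, hσ5]
      obtain ⟨b, hb, d, hd, e'⟩ := (hker _).1 hk
      refine Equiv.ext fun a => Subtype.ext ?_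
      have hpow : ∀ k : ℕ, ((c ^ k) a : G) = (g : G) ^ k * a * ((g : G) ^ k)⁻¹ := by
        intro k
        induction k with
        | zero => simp
        | succ k ih =>
          rw [pow_succ', Perm.mul_apply]
          show (g : G) * ((c ^ k) a : G) * (g : G)⁻¹ = _
          rw [ih, pow_succ']; group
      rw [pow_one, hpow, show (g : G) ^ 5 = b * d from by rw [← e']; simp]
      show b * d * (a : G) * (b * d)⁻¹ = a
      rw [mul_assoc b, ← hAD a a.2 d hd, ← mul_assoc, ← hcomm a a.2 b hb]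
      group
    haveI : Fact (Nat.Prime 5) := ⟨by norm_num⟩
    letI := Fintype.ofFinite ↥A
    have hmod := Perm.card_compl_support_modEq hc5
    let F : Subgroup ↥A :=
      { carrier := {a | c a = a}
        one_mem' := Subtype.ext (by simp [c])
        mul_mem' := fun {a b} ha hb => Subtype.ext (by
          have ha' := congrArg Subtype.val ha
          have hb' := congrArg Subtype.val hb
          simp only [c, Equiv.coe_fn_mk] at ha' hb' ⊢
          show (g : G) * ((a : G) * (b : G)) * (g : G)⁻¹ = (a : G) * (b : G)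
          calc (g : G) * ((a : G) * (b : G)) * (g : G)⁻¹
              = ((g : G) * a * (g : G)⁻¹) * ((g : G) * b * (g : G)⁻¹) := by group
            _ = _ := by rw [ha', hb'])
        inv_mem' := fun {a} ha => by
          have he : a⁻¹ = a := inv_eq_of_mul_eq_one_right (Subtype.ext (hexp a a.2))
          show c a⁻¹ = a⁻¹
          rw [he]; exact ha }
    have hFc : c.supportᶜ.card = Nat.card F := by
      rw [← Fintype.card_coe, ← Nat.card_eq_fintype_card]
      exact Nat.card_congr (Equiv.subtypeEquivRight fun a => by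
        rw [Finset.mem_compl, Perm.mem_support, not_not]; rfl)
    have h2F : 2 ≤ Nat.card F := by
      have : (⟨u, hu⟩ : ↥A) ∈ F := Subtype.ext (hall g)
      haveI : Nontrivial F := ⟨⟨⟨_, this⟩, 1, fun e' =>
        hu1 (congrArg (fun y : F => ((y : ↥A) : G)) e')⟩⟩
      exact Finite.one_lt_card
    rw [hFc, ← Nat.card_eq_fintype_card, hA16] at hmod
    have hdvd : Nat.card F ∣ 2 ^ 4 := by
      have := card_subgroup_dvd_card F; rwa [hA16] at this
    obtain ⟨k, hk4, hk⟩ := (Nat.dvd_prime_pow Nat.prime_two).1 hdvd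
    have hF16 : Nat.card F = 16 := by
      rw [hk] at hmod h2F ⊢
      interval_cases k <;> simp_all [Nat.ModEq]
    have hFtop : F = ⊤ := eq_top_of_card_eq _ (by rw [hF16, hA16])
    refine hσ1 (hg ▸ hfaith g fun a ha => ?_)
    have h := congrArg Subtype.val ((hFtop ▸ mem_top _ : (⟨a, ha⟩ : ↥A) ∈ F))
    exact mul_inv_eq_iff_eq_mul.1 h
  -- the five conjugates of `z`
  choose gi hgi using fun i : Fin 5 =>
    let ⟨σ, hσ, hσ4⟩ := perm_move_four i
    let ⟨n, hn⟩ := hsurj σ hσ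
    (⟨n, by rw [hn, hσ4]⟩ : ∃ n : ↥N, π n 4 = i)
  let w : Fin 5 → G := fun i => (gi i : G) * z * (gi i : G)⁻¹
  have hw : ∀ (n : ↥N) (i : Fin 5), π n 4 = i → (n : G) * z * (n : G)⁻¹ = w i := fun n i hn => by
    have h := hfix4 ((gi i)⁻¹ * n) (by
      rw [map_mul, Perm.mul_apply, hn, map_inv, Perm.inv_eq_iff_eq, hgi])
    simp only [w, Subgroup.coe_mul, Subgroup.coe_inv] at h ⊢
    calc (n : G) * z * (n : G)⁻¹
        = (gi i : G) * (((gi i : G)⁻¹ * (n : G)) * z * ((gi i : G)⁻¹ * (n : G))⁻¹) *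
          (gi i : G)⁻¹ := by group
      _ = _ := by rw [h]
  have hwA : ∀ i, w i ∈ A := fun i => (mem_normalizer_iff.1 (gi i).2 z).1 hz
  have hw4 : w 4 = z := hfix4 _ (hgi 4)
  have hwc : ∀ (n : ↥N) (i : Fin 5), (n : G) * w i * (n : G)⁻¹ = w (π n i) := fun n i => by
    rw [← hw (n * gi i) (π n i) (by rw [map_mul, Perm.mul_apply, hgi])]
    simp [w, mul_assoc]
  have hmove : ∀ j : Fin 5, j ≠ 4 → w j ≠ z := by
    intro j hj e'
    refine hz1 (hnofix z hz fun n => ?_)
    by_cases hn : π n 4 = 4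
    · exact hfix4 n hn
    obtain ⟨σ, hσ, hσ4, hσj⟩ := perm_fix_four_trans j (π n 4) hj hn
    obtain ⟨g, hg⟩ := hsurj σ hσ
    rw [hw n (π n 4) rfl, ← hw (g * gi j) (π n 4) (by
      rw [map_mul, Perm.mul_apply, hgi, hg, hσj]), Subgroup.coe_mul]
    calc (g : G) * (gi j : G) * z * ((g : G) * (gi j : G))⁻¹
        = (g : G) * w j * (g : G)⁻¹ := by simp [w, mul_assoc]
      _ = z := by rw [e', hfix4 g (by rw [hg, hσ4])]
  have hwinj : Function.Injective w := fun i j e' => by
    by_contra hij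
    refine hmove ((π (gi i))⁻¹ j) (fun h => hij ?_) ?_
    · rw [Perm.inv_eq_iff_eq, hgi] at h; exact h.symm
    · rw [← map_inv, ← hwc, ← e']
      simp [w, mul_assoc]
  -- products
  letI : CommGroup ↥A :=
    { (inferInstance : Group ↥A) with mul_comm := fun a b => Subtype.ext (hcomm a a.2 b b.2) }
  let w' : Fin 5 → ↥A := fun i => ⟨w i, hwA i⟩
  let f : Finset (Fin 5) → G := fun s => ((∏ i ∈ s, w' i : ↥A) : G)
  have f_mem : ∀ s, f s ∈ A := fun s => (∏ i ∈ s, w' i : ↥A).2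
  have f_mul : ∀ s t, f s * f t = f (symmDiff s t) := by
    intro s t
    have h : ∀ r, (∏ i ∈ r, w' i) = (∏ i : Fin 5, if i ∈ r then w' i else 1) :=
      fun r => (Finset.prod_ite_mem_eq r w').symm
    show ((∏ i ∈ s, w' i) * (∏ i ∈ t, w' i) : ↥A).1 = _
    refine congrArg Subtype.val ?_
    rw [h, h, h, ← Finset.prod_mul_distrib]
    refine Finset.prod_congr rfl fun i _ => ?_
    have hsq : w' i * w' i = 1 := Subtype.ext (hexp _ (hwA i))
    by_cases his : i ∈ s <;> by_cases hit : i ∈ t <;>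
      simp [Finset.mem_symmDiff, his, hit, hsq]
  have f_conj : ∀ (n : ↥N) s, (n : G) * f s * (n : G)⁻¹ = f (s.image (π n)) := by
    intro n s
    induction s using Finset.induction_on with
    | empty => simp [f]
    | insert a s ha ih =>
      have ha' : π n a ∉ s.image (π n) := by simpa using ha
      simp only [f, Finset.image_insert, Finset.prod_insert ha, Finset.prod_insert ha',
        Subgroup.coe_mul] at ih ⊢
      rw [← ih]
      show (n : G) * (w a * _) * (n : G)⁻¹ = w (π n a) * _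
      rw [← hwc]; group
  have hfu : f Finset.univ = 1 := by
    refine hnofix _ (f_mem _) fun n => ?_
    rw [f_conj, Finset.image_univ_equiv]
  have hcompl : ∀ s, f sᶜ = f s := fun s => by
    have h := f_mul s Finset.univ
    rw [hfu, mul_one, ← Finset.top_eq_univ, symmDiff_top] at h
    exact h.symm
  have hf1 : f ∅ = 1 := by simp [f]
  have hne1 : ∀ s : Finset (Fin 5), s ≠ ∅ → s.card ≤ 2 → f s ≠ 1 := by
    intro s hs hc e'
    obtain h | h : s.card = 1 ∨ s.card = 2 := by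
      have := Finset.card_pos.2 (Finset.nonempty_iff_ne_empty.2 hs); omega
    · obtain ⟨i, rfl⟩ := Finset.card_eq_one.1 h
      have : w i = 1 := by simpa [f, w'] using e'
      exact hz1 (conj_eq_one_iff.1 this)
    · obtain ⟨i, j, hij, rfl⟩ := Finset.card_eq_two.1 h
      have h2 : w i * w j = 1 := by simpa [f, w', Finset.prod_pair hij] using e'
      exact hij (hwinj (mul_right_cancel (h2.trans (hexp _ (hwA j)).symm)))
  have hker1 : ∀ s, f s = 1 → s = ∅ ∨ s = Finset.univ := by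
    intro s e'
    by_contra hne
    push Not at hne
    by_cases hc : s.card ≤ 2
    · exact hne1 s (Finset.nonempty_iff_ne_empty.1 hne.1) hc e'
    · refine hne1 sᶜ (fun h => hne.2 ?_) ?_ (by rw [hcompl, e'])
      · rw [← compl_compl s, h, Finset.compl_empty]
      · rw [Finset.card_compl, Fintype.card_fin]; omega
  have f_eq : ∀ s t, f s = f t ↔ s = t ∨ s = tᶜ := by
    refine fun s t => ⟨fun h => ?_, fun h => ?_⟩
    · have h1 : f (symmDiff s t) = 1 := by rw [← f_mul, h, hexp _ (f_mem t)]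
      refine (hker1 _ h1).imp (fun e' => ?_) fun e' => ?_
      · exact symmDiff_eq_bot.1 e'
      · ext i
        have hi := Finset.ext_iff.1 e' i
        simp only [Finset.mem_symmDiff, Finset.mem_univ, iff_true] at hi
        rw [Finset.mem_compl]
        tauto
    · rcases h with rfl | rfl
      exacts [rfl, hcompl t]
  have f_surj : ∀ a ∈ A, ∃ s, f s = a := by
    let g : {s : Finset (Fin 5) // (4 : Fin 5) ∉ s} → ↥A := fun s => ⟨f s.1, f_mem _⟩
    have hgi' : Function.Injective g := fun s t e' => by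
      rcases (f_eq _ _).1 (congrArg Subtype.val e') with h | h
      · exact Subtype.ext h
      · exact absurd (h ▸ Finset.mem_compl.2 t.2) s.2
    intro a ha
    obtain ⟨s, hs⟩ := (hgi'.bijective_of_nat_card_le (by
      rw [hA16, Nat.card_eq_fintype_card]; decide)).2 ⟨a, ha⟩
    exact ⟨s.1, congrArg Subtype.val hs⟩
  exact ⟨{ A := A, D := D, T := T, π := π, f := f, hcomm := hcomm, hexp := hexp, hA16 := hA16
           hT64 := hTT ▸ hT₀, hTN := hTN, hAT := hAT, hDodd := hDodd, hDN := hDN, hDnorm := hDnorm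
           hAD := hAD, hker := hker, hsign := hsign, hsurj := hsurj
           hTim := fun n hn => hTim n ((hmemT n).1 hn)
           hTsurj := fun σ h1 h2 h3 =>
             let ⟨r, hr, e'⟩ := hTsurj σ h1 h2 h3
             ⟨r, (hmemT r).2 hr, e'⟩
           f_mem := f_mem, f_surj := f_surj, f_eq := f_eq, f_mul := f_mul, f_conj := f_conj }, rfl⟩

end CfsgLib.SylAltEight
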